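import Groth.Agent.Lib.ComplAlg.Main
import Groth.Agent.Lib.AdicLim.Finite
import Groth.Agent.Lib.AdicExtra.Completion
import Groth.Prelude.Def_EGA4b
import Mathlib.RingTheory.AdicCompletion.LocalRing
import Mathlib.RingTheory.Flat.FaithfullyFlat.Algebra

/-!
# The completion of a finite algebra over a local ring
-/

set_option autoImplicit false
set_option linter.style.haveILetI false
universe u

open IsLocalRing TensorProduct

namespace GrothLib.Excellent

/-- The Jacobson completion of a finite algebra is its tensor product with the completion. -/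
theorem exists_jacobson_completion_equiv (A C : Type u) [CommRing A] [IsNoetherianRing A] [IsLocalRing A]
    [CommRing C] [Algebra A C] [Module.Finite A C] :
    Nonempty (C ⊗[A] EGA4.Cpl A ≃+* AdicCompletion ((⊥ : Ideal C).jacobson) C) := by
  classical
  let Q := EGA4.Cpl A
  let T := C ⊗[A] Q
  let m := maximalIdeal A
  let I' : Ideal C := m.map (algebraMap A C)
  let J := (⊥ : Ideal C).jacobson
  haveI : IsNoetherianRing C := IsNoetherianRing.of_finite A C
  haveI : Module.FaithfullyFlat A Q := Module.FaithfullyFlat.of_flat_of_isLocalHom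
  have hIJ : I' ≤ J := by
    refine le_sInf fun P hP => ?_
    haveI : P.IsMaximal := hP.2
    rw [Ideal.map_le_iff_le_comap, IsLocalRing.eq_maximalIdeal (Ideal.isMaximal_comap_of_isIntegral_of_isMaximal P)]
  obtain ⟨k, hk⟩ : ∃ k, J ^ k ≤ I' := Ideal.exists_pow_le_of_le_radical_of_fg (by
    rw [Ideal.radical_eq_sInf]
    refine le_sInf fun P hP => ?_
    haveI := hP.2
    have hc : (P.comap (algebraMap A C)).IsMaximal := by
      have : m ≤ P.comap (algebraMap A C) := Ideal.map_le_iff_le_comap.1 hP.1
      exact ((maximalIdeal.isMaximal A).eq_of_le (Ideal.IsPrime.ne_top inferInstance) this) ▸ maximalIdeal.isMaximal A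
    haveI := Ideal.isMaximal_of_isIntegral_of_isMaximal_comap P hc
    exact sInf_le ⟨bot_le, this⟩) J.fg_of_isNoetherianRing
  let ψ : C →+* T := algebraMap C T
  -- the `m`-adic filtration of `T`
  letI : Algebra Q T := Algebra.TensorProduct.rightAlgebra
  haveI : Module.Finite Q T :=
    Module.Finite.equiv ({ Algebra.TensorProduct.comm A Q C with
      commutes' := fun r => rfl } : (Q ⊗[A] C) ≃ₐ[Q] T).toLinearEquiv
  haveI : IsScalarTower A Q T := IsScalarTower.of_algebraMap_eq fun a =>
    ((Algebra.TensorProduct.includeRight : Q →ₐ[A] T).commutes a).symm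
  haveI := GrothLib.AdicLim.isAdicComplete_of_finite (maximalIdeal Q) T
  have hmap : ∀ n, (I' ^ n).map ψ = ((maximalIdeal Q) ^ n).map (algebraMap Q T) := fun n => by
    rw [Ideal.map_pow, Ideal.map_pow]
    congr 1
    rw [Ideal.map_map, AdicCompletion.maximalIdeal_eq_map, Ideal.map_map]
    congr 1
    exact RingHom.ext fun a => (IsScalarTower.algebraMap_apply A C T a).symm.trans (IsScalarTower.algebraMap_apply A Q T a)
  have hsm : ∀ n, ((maximalIdeal Q) ^ n • ⊤ : Submodule Q T) =
      (((maximalIdeal Q) ^ n).map (algebraMap Q T)).restrictScalars Q := fun n => Ideal.smul_top_eq_map _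
  have hmono : ∀ n, (I' ^ n).map ψ ≤ (J ^ n).map ψ := fun n => Ideal.map_mono (Ideal.pow_right_mono hIJ n)
  have hbound : ∀ n, J ^ ((k + 1) * n) ≤ I' ^ n := fun n => by
    rw [pow_mul]
    exact Ideal.pow_right_mono ((Ideal.pow_le_pow_right (Nat.le_succ k)).trans hk) n
  have hsurj : ∀ (n : ℕ) (c : T), ∃ d, c - ψ d ∈ (I' ^ n).map ψ := fun n c => by
    induction c using TensorProduct.induction_on with
    | zero => exact ⟨0, by simp⟩
    | add x y hx hy =>
      obtain ⟨a, ha⟩ := hx
      obtain ⟨b, hb⟩ := hy
      exact ⟨a + b, by rw [map_add, add_sub_add_comm]; exact add_mem ha hb⟩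
    | tmul c q =>
      obtain ⟨a, ha⟩ := (GrothLib.ComplAlg.isFormalCompl_adicCompletion m).surj n q
      refine ⟨algebraMap A C a * c, ?_⟩
      rw [hmap, show ψ (algebraMap A C a * c) = c ⊗ₜ[A] (algebraMap A Q a) by
        show (algebraMap A C a * c) ⊗ₜ[A] (1 : Q) = _
        rw [← Algebra.smul_def, TensorProduct.smul_tmul, Algebra.smul_def, mul_one], ← TensorProduct.tmul_sub,
        show c ⊗ₜ[A] (q - algebraMap A Q a) = algebraMap Q T (q - algebraMap A Q a) * (c ⊗ₜ[A] 1) by
          show _ = ((1 : C) ⊗ₜ[A] (q - algebraMap A Q a)) * _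
          rw [Algebra.TensorProduct.tmul_mul_tmul, one_mul, mul_one]]
      refine Ideal.mul_mem_right _ _ (Ideal.mem_map_of_mem _ ?_)
      rw [AdicCompletion.maximalIdeal_eq_map, ← Ideal.map_pow]
      exact ha
  haveI : Module.FaithfullyFlat C T := inferInstance
  obtain ⟨e, -⟩ := GrothLib.ComplAlg.exists_equiv_adicCompletion ψ J
    (fun n c => (hsurj n c).imp fun d hd => hmono n hd)
    (fun n d hd => by
      rw [← Ideal.mem_comap, Ideal.comap_map_eq_self_of_faithfullyFlat] at hd
      exact hd)
    (fun c hc => IsHausdorff.haus (inferInstance : IsHausdorff (maximalIdeal Q) T) c fun n => by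
      rw [SModEq.zero, hsm, Submodule.restrictScalars_mem, ← hmap]
      exact Ideal.map_mono (hbound n) (hc _))
    (fun x hx => by
      have hge : ∀ p q, p ≤ q → x q - x p ∈ (J ^ p).map ψ := by
        intro p q hpq
        induction q, hpq using Nat.le_induction with
        | base => simp
        | succ q hpq ih =>
          have h1 := Ideal.map_mono (Ideal.pow_le_pow_right hpq) (hx q)
          simpa using add_mem h1 ih
      obtain ⟨l, hl⟩ := IsPrecomplete.prec (inferInstance : IsPrecomplete (maximalIdeal Q) T)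
        (f := fun n => x ((k + 1) * n)) fun {p q} hpq => by
          rw [SModEq.sub_mem, hsm, Submodule.restrictScalars_mem, ← hmap, ← neg_sub]
          exact neg_mem (Ideal.map_mono (hbound p) (hge _ _ (Nat.mul_le_mul_left _ hpq)))
      refine ⟨l, fun n => ?_⟩
      have h1 := hl n
      rw [SModEq.sub_mem, hsm, Submodule.restrictScalars_mem, ← hmap] at h1
      have h2 := hge n ((k + 1) * n) (Nat.le_mul_of_pos_left n (Nat.succ_pos k))
      simpa using sub_mem (hmono n h1) h2)
  exact ⟨e⟩

end GrothLib.Excellent
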