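import Groth.Agent.Lib.J2.Criterion
import Groth.Prelude.Def_EGA4b
import Mathlib.RingTheory.Ideal.AssociatedPrime.Localization
import Mathlib.RingTheory.Localization.Integral

/-!
# Openness of the normal locus (EGA IV 6.13)
-/

set_option autoImplicit false
set_option linter.style.haveILetI false
universe u

open IsLocalRing

namespace GrothLib.Excellent

section domain

variable {B : Type u} [CommRing B] [IsDomain B]

/-- Normality at a prime in terms of denominators of integral elements. -/
theorem isIntegrallyClosed_atPrime_iff (q : Ideal B) [q.IsPrime] :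
    IsIntegrallyClosed (Localization.AtPrime q) ↔
      ∀ y : FractionRing B, IsIntegral B y → ∃ t ∉ q, ∃ c : B, algebraMap B _ t * y = algebraMap B _ c := by
  let K := FractionRing B
  have hu : ∀ y : q.primeCompl, IsUnit (algebraMap B K y) := fun y => isUnit_iff_ne_zero.2 fun h => y.2
    (by rw [IsFractionRing.injective B K (h.trans (map_zero _).symm)]; exact zero_mem _)
  let L := Localization.AtPrime q
  letI : Algebra L K := (IsLocalization.lift hu).toAlgebra
  haveI : IsScalarTower B L K := IsScalarTower.of_algebraMap_eq fun r => (IsLocalization.lift_eq hu r).symm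
  haveI : IsFractionRing L K :=
    IsFractionRing.isFractionRing_of_isDomain_of_isLocalization q.primeCompl L K
  constructor
  · intro h y hy
    obtain ⟨z, hz⟩ := IsIntegrallyClosed.isIntegral_iff.1 (hy.tower_top (A := L))
    obtain ⟨⟨c, t⟩, hct⟩ := IsLocalization.surj q.primeCompl z
    refine ⟨t, t.2, c, ?_⟩
    rw [← hz, IsScalarTower.algebraMap_apply B L K (t : B), ← map_mul, mul_comm, hct,
      ← IsScalarTower.algebraMap_apply]
  · intro h
    refine (isIntegrallyClosed_iff K).2 fun {x} hx => ?_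
    obtain ⟨s, hs⟩ := IsIntegral.exists_multiple_integral_of_isLocalization (R := B) q.primeCompl x hx
    obtain ⟨t, ht, c, hc⟩ := h _ hs
    refine ⟨IsLocalization.mk' L c (⟨t, ht⟩ * s), ?_⟩
    have hne : algebraMap B K (t * (s : B)) ≠ 0 := (hu (⟨t, ht⟩ * s)).ne_zero
    apply mul_right_cancel₀ hne
    calc algebraMap L K (IsLocalization.mk' L c (⟨t, ht⟩ * s)) * algebraMap B K (t * (s : B))
        = algebraMap B K c := by
          rw [IsScalarTower.algebraMap_apply B L K (t * (s : B)), ← map_mul,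
            show t * (s : B) = ((⟨t, ht⟩ * s : q.primeCompl) : B) from rfl, IsLocalization.mk'_spec,
            ← IsScalarTower.algebraMap_apply]
      _ = _ := by
          rw [← hc, Submonoid.smul_def, Algebra.smul_def, map_mul]
          ring

/-- Normality away from `g` and at the associated primes of `B / g` gives normality. -/
theorem isIntegrallyClosed_atPrime_of [IsNoetherianRing B] {g : B} (hg0 : g ≠ 0) (q : Ideal B) [q.IsPrime]
    (h1 : ∀ (Q : Ideal B) [Q.IsPrime], g ∉ Q → IsIntegrallyClosed (Localization.AtPrime Q))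
    (h2 : ∀ (Q : Ideal B) [Q.IsPrime], Q ∈ associatedPrimes B (B ⧸ Ideal.span {g}) → Q ≤ q →
      IsIntegrallyClosed (Localization.AtPrime Q)) :
    IsIntegrallyClosed (Localization.AtPrime q) := by
  classical
  rw [isIntegrallyClosed_atPrime_iff]
  intro y hy
  let K := FractionRing B
  let J : Ideal B :=
    { carrier := {t | ∃ c : B, algebraMap B K t * y = algebraMap B K c}
      add_mem' := by
        rintro a b ⟨c, hc⟩ ⟨d, hd⟩
        exact ⟨c + d, by rw [map_add, map_add, add_mul, hc, hd]⟩
      zero_mem' := ⟨0, by rw [map_zero, zero_mul]⟩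
      smul_mem' := by
        rintro r a ⟨c, hc⟩
        exact ⟨r * c, by rw [smul_eq_mul, map_mul, map_mul, mul_assoc, hc]⟩ }
  suffices h : ∃ t ∉ q, t ∈ J by
    obtain ⟨t, ht, htJ⟩ := h
    exact ⟨t, ht, htJ⟩
  by_contra hcon
  push Not at hcon
  have hJq : J ≤ q := fun t ht => by
    by_contra htq
    exact hcon t htq ht
  -- some `s * g ^ n` is a denominator
  have hfin := Ideal.finite_minimalPrimes_of_isNoetherianRing B J
  let bad := hfin.toFinset.filter fun Q => ¬ Q ≤ q
  obtain ⟨s, hsb, hsq⟩ : ∃ s ∈ bad.inf id, s ∉ q := by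
    refine Set.not_subset.1 fun hle => ?_
    obtain ⟨Q, hQ, hQq⟩ := (Ideal.IsPrime.inf_le' (inferInstance : q.IsPrime)).1 hle
    exact (Finset.mem_filter.1 hQ).2 hQq
  have hrad : s * g ∈ J.radical := by
    rw [← Ideal.sInf_minimalPrimes, Submodule.mem_sInf]
    intro Q hQ
    by_cases hQq : Q ≤ q
    · refine Ideal.mul_mem_left Q _ ?_
      by_contra hgQ
      haveI := hQ.1.1
      obtain ⟨t, ht, c, hc⟩ := (isIntegrallyClosed_atPrime_iff Q).1 (h1 Q hgQ) y hy
      exact ht (hQ.1.2 ⟨c, hc⟩)
    · exact Ideal.mul_mem_right _ Q ((Finset.inf_le (f := id)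
        (Finset.mem_filter.2 ⟨hfin.mem_toFinset.2 hQ, hQq⟩) : bad.inf id ≤ Q) hsb)
  obtain ⟨N, hN⟩ := hrad
  have key : ∀ n : ℕ, ∀ s : B, s ∉ q → s * g ^ n ∈ J → False := by
    intro n
    induction n with
    | zero => intro s hs h; rw [pow_zero, mul_one] at h; exact hs (hJq h)
    | succ n ih =>
      rintro s hs ⟨b, hb⟩
      let M := B ⧸ Ideal.span {g}
      let N := Submodule.span B {(Ideal.Quotient.mk (Ideal.span {g}) b : M)}
      let C := Module.annihilator B N
      have hmemC : ∀ t, t ∈ C ↔ g ∣ t * b := by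
        intro t
        rw [show C = N.annihilator from rfl, Submodule.mem_annihilator_span_singleton,
          Algebra.smul_def, Ideal.Quotient.algebraMap_eq, ← map_mul, Ideal.Quotient.eq_zero_iff_mem,
          Ideal.mem_span_singleton]
      have hCq : C ≤ q := by
        intro u hu
        by_contra huq
        obtain ⟨c, hc⟩ := (hmemC u).1 hu
        refine ih (u * s) (fun h => (Ideal.IsPrime.mem_or_mem inferInstance h).elim huq hs) ⟨c, ?_⟩
        apply mul_left_cancel₀ (a := algebraMap B K g) (fun h => hg0 (IsFractionRing.injective B K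
          (h.trans (map_zero _).symm)))
        calc algebraMap B K g * (algebraMap B K (u * s * g ^ n) * y)
            = algebraMap B K u * (algebraMap B K (s * g ^ (n + 1)) * y) := by
              simp only [map_mul, map_pow, pow_succ]; ring
          _ = algebraMap B K (u * b) := by rw [hb, map_mul]
          _ = _ := by rw [hc, map_mul]
      obtain ⟨Q, hQ, hQq⟩ := Ideal.exists_minimalPrimes_le hCq
      haveI := hQ.1.1
      have hass : Q ∈ associatedPrimes B M :=
        associatedPrimes.subset_of_injective (f := N.subtype) Subtype.val_injective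
          (Module.associatedPrimes.minimalPrimes_annihilator_subset_associatedPrimes B N hQ)
      obtain ⟨t, ht, c, hc⟩ := (isIntegrallyClosed_atPrime_iff Q).1 (h2 Q hass hQq) y hy
      refine ht (hQ.1.2 ((hmemC t).2 ⟨s * g ^ n * c, ?_⟩))
      apply IsFractionRing.injective B K
      rw [map_mul, ← hb, map_mul, map_mul, map_mul, map_mul, map_pow, map_pow, ← hc, pow_succ]
      ring
  rw [mul_pow] at hN
  exact key N (s ^ N) (fun h => hsq (Ideal.IsPrime.mem_of_pow_mem inferInstance N h)) hN

end domain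

/-- Generic normality of a domain. -/
def IsN0 (B : Type u) [CommRing B] : Prop :=
  ∃ g : B, g ≠ 0 ∧ ∀ (Q : Ideal B) [Q.IsPrime], g ∉ Q → IsIntegrallyClosed (Localization.AtPrime Q)

theorem mem_norLocus_iff {A : Type u} [CommRing A] (p : PrimeSpectrum A) :
    p ∈ EGA4.norLocus A ↔
      IsDomain (Localization.AtPrime p.asIdeal) ∧ IsIntegrallyClosed (Localization.AtPrime p.asIdeal) := Iff.rfl

theorem norLocus_congr {A : Type u} [CommRing A] {T : Type u} [CommRing T] {p : PrimeSpectrum A}
    (e : Localization.AtPrime p.asIdeal ≃+* T) (hd : IsDomain T) (hc : IsIntegrallyClosed T) :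
    p ∈ EGA4.norLocus A :=
  ⟨e.injective.isDomain, IsIntegrallyClosed.of_equiv e.symm⟩

/-- Normality is stable under generalisation. -/
theorem norLocus_stable {A : Type u} [CommRing A] {p q : PrimeSpectrum A} (h : p.asIdeal ≤ q.asIdeal)
    (hq : q ∈ EGA4.norLocus A) : p ∈ EGA4.norLocus A := by
  obtain ⟨_, _⟩ := hq
  let L := Localization.AtPrime q.asIdeal
  have hdisj : Disjoint (q.asIdeal.primeCompl : Set A) p.asIdeal :=
    Set.disjoint_left.mpr fun x hx hp => hx (h hp)
  let P := p.asIdeal.map (algebraMap A L)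
  haveI : P.IsPrime := IsLocalization.isPrime_of_isPrime_disjoint q.asIdeal.primeCompl _ _ inferInstance hdisj
  have hP : P.comap (algebraMap A L) = p.asIdeal :=
    IsLocalization.under_map_of_isPrime_disjoint q.asIdeal.primeCompl L inferInstance hdisj
  haveI : IsLocalization.AtPrime (Localization.AtPrime P) p.asIdeal := by
    convert IsLocalization.isLocalization_isLocalization_atPrime_isLocalization q.asIdeal.primeCompl
      (Localization.AtPrime P) P
    exact hP.symm
  exact norLocus_congr
    (IsLocalization.algEquiv p.asIdeal.primeCompl (Localization.AtPrime p.asIdeal) (Localization.AtPrime P)).toRingEquiv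
    inferInstance (isIntegrallyClosed_of_isLocalization _ P.primeCompl P.primeCompl_le_nonZeroDivisors)

/-- Normality at a point where only one component passes. -/
theorem norLocus_quotient_iff {A : Type u} [CommRing A] (P : Ideal A) [P.IsPrime] (q : PrimeSpectrum A)
    (hPq : P ≤ q.asIdeal) (h0 : P.map (algebraMap A (Localization.AtPrime q.asIdeal)) = ⊥)
    [(q.asIdeal.map (Ideal.Quotient.mk P)).IsPrime] :
    q ∈ EGA4.norLocus A ↔ IsIntegrallyClosed (Localization.AtPrime (q.asIdeal.map (Ideal.Quotient.mk P))) := by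
  obtain ⟨e⟩ := GrothLib.J2.exists_quotient_equiv P q.asIdeal hPq
  let e' := ((Ideal.quotEquivOfEq h0).trans (RingEquiv.quotientBot _)).symm.trans e
  constructor
  · rintro ⟨_, h⟩
    haveI := h
    exact IsIntegrallyClosed.of_equiv e'
  · intro h
    exact norLocus_congr e' inferInstance h

theorem isPrime_map_mk {A : Type u} [CommRing A] {P q : Ideal A} [q.IsPrime] (h : P ≤ q) :
    (q.map (Ideal.Quotient.mk P)).IsPrime :=
  Ideal.map_isPrime_of_surjective Ideal.Quotient.mk_surjective (by rwa [Ideal.mk_ker])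

theorem map_eq_bot_of_notMem {A : Type u} [CommRing A] {P : Ideal A} {h : A} (hh : ∀ x ∈ P, h * x = 0)
    (q : Ideal A) [q.IsPrime] (hq : h ∉ q) : P.map (algebraMap A (Localization.AtPrime q)) = ⊥ := by
  rw [Ideal.map_eq_bot_iff_le_ker]
  intro x hx
  rw [RingHom.mem_ker, IsLocalization.map_eq_zero_iff q.primeCompl]
  exact ⟨⟨h, hq⟩, hh x hx⟩

/-- At a point with domain local ring there is a unique minimal prime below, killed nearby. -/
theorem exists_minimal_killed {A : Type u} [CommRing A] [IsNoetherianRing A] (q : Ideal A) [q.IsPrime]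
    [IsDomain (Localization.AtPrime q)] :
    ∃ P : Ideal A, P ∈ minimalPrimes A ∧ P ≤ q ∧ ∃ h ∉ q, ∀ x ∈ P, h * x = 0 := by
  classical
  obtain ⟨P, hP, hPq⟩ := Ideal.exists_minimalPrimes_le (show (⊥ : Ideal A) ≤ q from bot_le)
  haveI := hP.1.1
  have hdisj : Disjoint (q.primeCompl : Set A) P := Set.disjoint_left.mpr fun x hx hp => hx (hPq hp)
  have hkill : P.map (algebraMap A (Localization.AtPrime q)) = ⊥ := by
    haveI := IsLocalization.isPrime_of_isPrime_disjoint q.primeCompl (Localization.AtPrime q) P ‹_› hdisj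
    have hker : RingHom.ker (algebraMap A (Localization.AtPrime q)) ≤ P := fun x hx => by
      obtain ⟨m, hm⟩ := (IsLocalization.map_eq_zero_iff q.primeCompl _ x).1 hx
      exact ((Ideal.IsPrime.mem_or_mem hP.1.1 (hm ▸ P.zero_mem)).resolve_left fun h => m.2 (hPq h))
    have hb : (⊥ : Ideal (Localization.AtPrime q)).comap (algebraMap A _) = P :=
      le_antisymm hker (hP.2 ⟨Ideal.IsPrime.comap _, bot_le⟩ hker)
    exact le_bot_iff.1 ((Ideal.map_mono hb.ge).trans Ideal.map_comap_le)
  obtain ⟨T, hT⟩ := (IsNoetherian.noetherian P : P.FG)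
  have h1 : ∀ x ∈ T, ∃ m ∉ q, m * x = 0 := fun x hx => by
    have : algebraMap A (Localization.AtPrime q) x = 0 := by
      rw [← Ideal.mem_bot, ← hkill]
      exact Ideal.mem_map_of_mem _ (hT ▸ Submodule.subset_span hx)
    obtain ⟨m, hm⟩ := (IsLocalization.map_eq_zero_iff q.primeCompl _ x).1 this
    exact ⟨m, m.2, hm⟩
  choose m hm hmx using h1
  refine ⟨P, hP, hPq, ∏ x ∈ T.attach, m x.1 x.2, fun h => ?_, fun x hx => ?_⟩
  · obtain ⟨x, -, hxq⟩ := (Ideal.IsPrime.prod_mem_iff (p := q)).mp h
    exact hm _ _ hxq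
  · rw [← hT] at hx
    induction hx using Submodule.span_induction with
    | mem y hy =>
      obtain ⟨c, hc⟩ := Finset.dvd_prod_of_mem (fun z : T => m z.1 z.2) (Finset.mem_attach T ⟨y, hy⟩)
      rw [hc, mul_right_comm, hmx y hy, zero_mul]
    | zero => rw [mul_zero]
    | add y z _ _ h1 h2 => rw [mul_add, h1, h2, add_zero]
    | smul r y _ h1 => rw [smul_eq_mul, mul_left_comm, h1, mul_zero]

/-- **The normal locus is open once the components normal at their generic point are generically normal.** -/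
theorem isOpen_norLocus {A : Type u} [CommRing A] [IsNoetherianRing A]
    (H : ∀ P : PrimeSpectrum A, P.asIdeal ∈ minimalPrimes A → P ∈ EGA4.norLocus A → IsN0 (A ⧸ P.asIdeal)) :
    IsOpen (EGA4.norLocus A) := by
  classical
  refine GrothLib.J2.isOpen_of_stable _ (fun _ _ => norLocus_stable) fun p hp => ?_
  haveI := hp.1
  obtain ⟨P, hP, hPp, h, hh, hkill⟩ := exists_minimal_killed p.asIdeal
  haveI : P.IsPrime := hP.1.1
  obtain ⟨g, hg0, hg⟩ := H ⟨P, ‹_›⟩ hP (norLocus_stable (q := p) hPp hp)
  let B := A ⧸ P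
  let S := (associatedPrimes.finite B (B ⧸ Ideal.span {g})).toFinset
  let bad := S.filter fun Q => ¬ Q ≤ p.asIdeal.map (Ideal.Quotient.mk P)
  haveI := isPrime_map_mk (q := p.asIdeal) hPp
  obtain ⟨c, hcb, hcp⟩ : ∃ c ∈ bad.inf id, c ∉ p.asIdeal.map (Ideal.Quotient.mk P) := by
    refine Set.not_subset.1 fun hle => ?_
    obtain ⟨Q, hQ, hQp⟩ := (Ideal.IsPrime.inf_le' (inferInstance : (p.asIdeal.map (Ideal.Quotient.mk P)).IsPrime)).1 hle
    exact (Finset.mem_filter.1 hQ).2 hQp
  obtain ⟨c, rfl⟩ := Ideal.Quotient.mk_surjective c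
  refine ⟨h * c, fun hm => ?_, fun q hpq hq => ?_⟩
  · exact (p.isPrime.mem_or_mem hm).elim hh fun hc => hcp (Ideal.mem_map_of_mem _ hc)
  · have hPq : P ≤ q.asIdeal := hPp.trans hpq
    have hhq : h ∉ q.asIdeal := fun h' => hq (q.asIdeal.mul_mem_right _ h')
    haveI := isPrime_map_mk (q := q.asIdeal) hPq
    rw [norLocus_quotient_iff P q hPq (map_eq_bot_of_notMem hkill q.asIdeal hhq)]
    refine isIntegrallyClosed_atPrime_of hg0 _ hg fun Q _ hQ hQq => ?_
    have hQp : Q ≤ p.asIdeal.map (Ideal.Quotient.mk P) := by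
      by_contra hne
      have hcQ : Ideal.Quotient.mk P c ∈ Q := (Finset.inf_le (f := id)
        (Finset.mem_filter.2 ⟨(associatedPrimes.finite B (B ⧸ Ideal.span {g})).mem_toFinset.2 hQ, hne⟩) :
          bad.inf id ≤ Q) hcb
      have := hQq hcQ
      rw [Ideal.mem_quotient_iff_mem hPq] at this
      exact hq (q.asIdeal.mul_mem_left _ this)
    have hpN : (⟨p.asIdeal.map (Ideal.Quotient.mk P), inferInstance⟩ : PrimeSpectrum B) ∈ EGA4.norLocus B :=
      ⟨inferInstance, (norLocus_quotient_iff P p hPp (map_eq_bot_of_notMem hkill p.asIdeal hh)).1 hp⟩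
    exact (norLocus_stable (p := ⟨Q, ‹_›⟩) hQp hpN).2

/-- Conversely an open normal locus gives generic normality of such components. -/
theorem isN0_of_nhd {A : Type u} [CommRing A] [IsNoetherianRing A] {P : PrimeSpectrum A}
    (hmin : P.asIdeal ∈ minimalPrimes A) {U : Set (PrimeSpectrum A)} (hU : IsOpen U) (hPU : P ∈ U)
    (hUN : U ⊆ EGA4.norLocus A) : IsN0 (A ⧸ P.asIdeal) := by
  obtain ⟨_, ⟨g, rfl⟩, hPg, hgU⟩ := PrimeSpectrum.isTopologicalBasis_basic_opens.exists_subset_of_mem_open hPU hU
  refine ⟨Ideal.Quotient.mk _ g, fun h => hPg (Ideal.Quotient.eq_zero_iff_mem.1 h), fun Q _ hgQ => ?_⟩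
  let q : PrimeSpectrum A := ⟨Q.comap (Ideal.Quotient.mk P.asIdeal), inferInstance⟩
  have hPq : P.asIdeal ≤ q.asIdeal := fun x hx => by
    show Ideal.Quotient.mk P.asIdeal x ∈ Q
    rw [Ideal.Quotient.eq_zero_iff_mem.2 hx]; exact Q.zero_mem
  have hqN : q ∈ EGA4.norLocus A := hUN (hgU hgQ)
  haveI := hqN.1
  obtain ⟨P', hP', hP'q, h, hh, hkill⟩ := exists_minimal_killed q.asIdeal
  have hPP : P' = P.asIdeal := by
    haveI := hP'.1.1
    have hle : P' ≤ P.asIdeal := by
      intro x hx
      have h' : h ∉ P.asIdeal := fun h' => hh (hPq h')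
      exact (P.isPrime.mem_or_mem (by rw [hkill x hx]; exact P.asIdeal.zero_mem)).resolve_left h'
    exact le_antisymm hle (hmin.2 ⟨hP'.1.1, bot_le⟩ hle)
  subst hPP
  haveI := isPrime_map_mk (q := q.asIdeal) hPq
  have h2 := (norLocus_quotient_iff P.asIdeal q hPq (map_eq_bot_of_notMem hkill q.asIdeal hh)).1 hqN
  have hQ : q.asIdeal.map (Ideal.Quotient.mk P.asIdeal) = Q :=
    Ideal.map_comap_of_surjective _ Ideal.Quotient.mk_surjective Q
  revert h2
  intro h2
  have key : ∀ (I : Ideal (A ⧸ P.asIdeal)) [I.IsPrime], I = Q → IsIntegrallyClosed (Localization.AtPrime I) →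
      IsIntegrallyClosed (Localization.AtPrime Q) := by rintro I _ rfl h; exact h
  exact key _ hQ h2

end GrothLib.Excellent
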