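import Groth.Agent.Lib.Excellent.FlatFibres
import Groth.Agent.Lib.Excellent.NorFiniteType
import Groth.Agent.Lib.N2.Completion
import Groth.Agent.Lib.N2.Excellent
import Groth.Agent.Lib.GrpSchField.ReducedProd

/-!
# Reducedness along flat maps with geometrically reduced fibres
-/

set_option autoImplicit false
set_option linter.style.haveILetI false
universe u

open IsLocalRing TensorProduct

namespace GrothLib.Excellent

theorem isReduced_of_isNormalRing {T : Type u} [CommRing T] (h : EGA4.IsNormalRing T) : IsReduced T := by
  refine ⟨fun x hx => ?_⟩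
  refine Module.eq_zero_of_localization_maximal (R := T)
    (fun P _ => Localization.AtPrime P) (fun P _ => Algebra.linearMap _ _) x fun P _ => ?_
  haveI := (h P).1
  exact (hx.map (algebraMap T (Localization.AtPrime P))).eq_zero

theorem isNormalRing_of_isGeomNormal {k S : Type u} [Field k] [CommRing S] [Algebra k S]
    (h : EGA4.IsGeomNormal k S) : EGA4.IsNormalRing S :=
  isNormalRing_congr (Algebra.TensorProduct.lid k S).toRingEquiv (h k inferInstance)

theorem isRegularRing_of_isGeometricallyRegular {k S : Type u} [Field k] [CommRing S] [Algebra k S]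
    (h : CAlg.IsGeometricallyRegular k S) : IsRegularRing S := by
  haveI := h k inferInstance
  exact IsRegularRing.of_ringEquiv (R := k ⊗[k] S) (Algebra.TensorProduct.lid k S).toRingEquiv

/-- Geometrically normal algebras are geometrically reduced. -/
theorem isGeometricallyReduced_of_isGeomNormal {k : Type u} [Field k] {A : Type u} [CommRing A]
    [Algebra k A] (h : EGA4.IsGeomNormal k A) : Algebra.IsGeometricallyReduced k A := by
  rw [Algebra.isGeometricallyReduced_field_iff]
  suffices IsReduced (A ⊗[k] AlgebraicClosure k) from
    isReduced_of_injective _ (Algebra.TensorProduct.comm k (AlgebraicClosure k) A).injective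
  refine IsReduced.tensorProduct_of_flat_of_forall_fg fun B hB => ?_
  have : Algebra.IsIntegral k B := by
    have : Algebra.IsAlgebraic k (AlgebraicClosure k) := inferInstance
    exact ⟨fun x => (isIntegral_algHom_iff B.val Subtype.val_injective).1
      (Algebra.IsIntegral.isIntegral (x : AlgebraicClosure k))⟩
  have : Algebra.FiniteType k B := B.fg_iff_finiteType.1 hB
  have : Module.Finite k B := Algebra.IsIntegral.finite
  let _ : Field B := (isField_of_isIntegral_of_isField' (R := k) (Field.toIsField k)).toField
  exact isReduced_of_isNormalRing (isNormalRing_congr (Algebra.TensorProduct.comm k B A).toRingEquiv (h B this))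

variable {A A' : Type u} [CommRing A] [CommRing A'] [Algebra A A']

theorem isReduced_tensor_field
    (hfib : ∀ (p : Ideal A) [p.IsPrime], Algebra.IsGeometricallyReduced p.ResidueField (p.Fiber A'))
    (K : Type u) [Field K] [Algebra A K] : IsReduced (A' ⊗[A] K) := by
  let p := RingHom.ker (algebraMap A K)
  haveI : p.IsPrime := RingHom.ker_isPrime _
  let φ : p.ResidueField →ₐ[A] K := Ideal.ResidueField.liftₐ p (Algebra.ofId A K) le_rfl
    (fun a ha => isUnit_iff_ne_zero.2 (fun h0 => ha h0))
  letI : Algebra p.ResidueField K := φ.toRingHom.toAlgebra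
  haveI : IsScalarTower A p.ResidueField K := IsScalarTower.of_algebraMap_eq fun a => (φ.commutes a).symm
  haveI := hfib p
  haveI : IsReduced (K ⊗[p.ResidueField] p.Fiber A') :=
    GrothLib.GrpSchField.isReduced_tensorProduct (K := p.ResidueField) (A := K) (B := p.Fiber A')
  haveI : IsReduced (K ⊗[A] A') := isReduced_of_injective
    (Algebra.TensorProduct.cancelBaseChange A p.ResidueField K K A').symm
    (Algebra.TensorProduct.cancelBaseChange A p.ResidueField K K A').symm.injective
  exact isReduced_of_injective (Algebra.TensorProduct.comm A A' K) (Algebra.TensorProduct.comm A A' K).injective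

variable [IsNoetherianRing A] [Module.Flat A A']

theorem isReduced_tensor_noetherian
    (hfib : ∀ (p : Ideal A) [p.IsPrime], Algebra.IsGeometricallyReduced p.ResidueField (p.Fiber A'))
    (B : Type u) [CommRing B] [Algebra A B] [IsReduced B] [IsNoetherianRing B] : IsReduced (A' ⊗[A] B) := by
  classical
  haveI : Finite (minimalPrimes B) := (minimalPrimes.finite_of_isNoetherianRing B).to_subtype
  haveI : Fintype (minimalPrimes B) := Fintype.ofFinite _
  haveI hp : ∀ i : minimalPrimes B, i.1.IsPrime := fun i => Ideal.minimalPrimes_isPrime i.2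
  let F : minimalPrimes B → Type u := fun i => FractionRing (B ⧸ i.1)
  let f : B →ₐ[A] (∀ i, F i) := Pi.algHom A F fun i => IsScalarTower.toAlgHom A B (F i)
  have hf : Function.Injective f := by
    rw [injective_iff_map_eq_zero]
    intro x hx
    apply IsNilpotent.eq_zero
    rw [← mem_nilradical, nilradical, ← Ideal.sInf_minimalPrimes, Submodule.mem_sInf]
    intro P hP
    have h : algebraMap B (F ⟨P, hP⟩) x = 0 := congrFun hx ⟨P, hP⟩
    rw [IsScalarTower.algebraMap_apply B (B ⧸ P) (F ⟨P, hP⟩)] at h
    exact Ideal.Quotient.eq_zero_iff_mem.1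
      (IsFractionRing.injective (B ⧸ P) (F ⟨P, hP⟩) (h.trans (map_zero _).symm))
  let g : A' ⊗[A] B →ₐ[A] (∀ i, A' ⊗[A] F i) :=
    (Algebra.TensorProduct.piRight A A A' F).toAlgHom.comp (Algebra.TensorProduct.map (AlgHom.id A A') f)
  haveI : ∀ i, IsReduced (A' ⊗[A] F i) := fun i => isReduced_tensor_field hfib (F i)
  refine isReduced_of_injective g ?_
  exact (Algebra.TensorProduct.piRight A A A' F).injective.comp
    (Module.Flat.lTensor_preserves_injective_linearMap (M := A') f.toLinearMap hf)

/-- Reduced algebras stay reduced after a flat base change with geometrically reduced fibres. -/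
theorem isReduced_tensor
    (hfib : ∀ (p : Ideal A) [p.IsPrime], Algebra.IsGeometricallyReduced p.ResidueField (p.Fiber A'))
    (B : Type u) [CommRing B] [Algebra A B] [IsReduced B] : IsReduced (A' ⊗[A] B) := by
  refine IsReduced.tensorProduct_of_flat_of_forall_fg fun B₀ hB₀ => ?_
  haveI : Algebra.FiniteType A B₀ := B₀.fg_iff_finiteType.1 hB₀
  haveI : IsNoetherianRing B₀ := Algebra.FiniteType.isNoetherianRing A B₀
  haveI : IsReduced B₀ := isReduced_of_injective B₀.val Subtype.val_injective
  exact isReduced_tensor_noetherian hfib B₀

theorem isReduced_of_flat [IsReduced A]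
    (hfib : ∀ (p : Ideal A) [p.IsPrime], Algebra.IsGeometricallyReduced p.ResidueField (p.Fiber A')) :
    IsReduced A' := by
  haveI := isReduced_tensor (A' := A') hfib A
  exact isReduced_of_injective (Algebra.TensorProduct.rid A A A').symm
    (Algebra.TensorProduct.rid A A A').symm.injective

theorem isReduced_of_faithfullyFlat [Module.FaithfullyFlat A A'] [IsReduced A'] : IsReduced A :=
  isReduced_of_injective (algebraMap A A') (FaithfulSMul.algebraMap_injective A A')

theorem faithfullyFlat_cpl (A : Type u) [CommRing A] [IsLocalRing A] [IsNoetherianRing A] :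
    Module.FaithfullyFlat A (EGA4.Cpl A) := Module.FaithfullyFlat.of_flat_of_isLocalHom

/-- A property of local rings which, along a faithfully flat map, holds upstairs iff downstairs
has an open locus downstairs if it has one upstairs. -/
theorem isOpen_of_comap_eq [Module.FaithfullyFlat A A'] {s : Set (PrimeSpectrum A)}
    (hs : IsOpen (PrimeSpectrum.comap (algebraMap A A') ⁻¹' s)) : IsOpen s := by
  refine ((PrimeSpectrum.isQuotientMap_of_generalizingMap
    PrimeSpectrum.comap_surjective_of_faithfullyFlat ?_).isOpen_preimage).mp hs
  exact RingHom.Flat.generalizingMap_comap (RingHom.flat_algebraMap_iff.2 inferInstance)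

end GrothLib.Excellent
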