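import Groth.Agent.Lib.GeomReg.FiniteGRing
import Groth.Agent.Lib.J2.Criterion
import Mathlib.RingTheory.Adjoin.FG
import Mathlib.RingTheory.Spectrum.Prime.Topology

/-!
# Localisations of excellent rings
-/

set_option autoImplicit false
set_option linter.style.haveILetI false
universe u

open IsLocalRing

namespace GrothLib.Excellent

theorem isLocalization_bot_of_bijective {R S : Type u} [CommRing R] [CommRing S] [Algebra R S]
    (h : Function.Bijective (algebraMap R S)) : IsLocalization (⊥ : Submonoid R) S := by
  haveI : IsLocalization (⊥ : Submonoid R) R := IsLocalization.self (fun x hx => by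
    rw [Submonoid.mem_bot] at hx
    exact hx ▸ isUnit_one)
  exact IsLocalization.isLocalization_of_algEquiv (⊥ : Submonoid R) (AlgEquiv.ofBijective (Algebra.ofId R S) h)

/-- Regularity of the completion map is invariant under isomorphism. -/
theorem isRegularHom_completion_congr {R R' : Type u} [CommRing R] [CommRing R'] [IsLocalRing R] [IsLocalRing R']
    [IsNoetherianRing R] [IsNoetherianRing R'] (e : R ≃+* R')
    (h : CAlg.IsRegularHom R (AdicCompletion (maximalIdeal R) R)) :
    CAlg.IsRegularHom R' (AdicCompletion (maximalIdeal R') R') := by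
  letI : Algebra R R' := e.toRingHom.toAlgebra
  haveI : IsLocalHom (algebraMap R R') := ⟨fun a ha => (isUnit_map_iff e a).1 ha⟩
  obtain ⟨ψ, hψ⟩ := GrothLib.GeomReg.exists_completion_map R R'
  haveI hloc : IsLocalization (⊥ : Submonoid R) R' := isLocalization_bot_of_bijective e.bijective
  haveI : Module.Flat R R' := IsLocalization.flat R' (⊥ : Submonoid R)
  have hbij : Function.Bijective ψ := by
    refine GrothLib.AdicExtra.bijective_completion ψ hψ ?_ ⟨(ResidueField.map _).injective, fun y => ?_⟩
    · exact IsLocalRing.eq_maximalIdeal (Ideal.IsMaximal.map_bijective (algebraMap R R') e.bijective (maximalIdeal.isMaximal R))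
    · obtain ⟨x, rfl⟩ := residue_surjective y
      obtain ⟨x, rfl⟩ := e.surjective x
      exact ⟨residue R x, ResidueField.map_residue _ _⟩
  letI : Algebra (AdicCompletion (maximalIdeal R) R) (AdicCompletion (maximalIdeal R') R') := ψ.toAlgebra
  haveI : IsScalarTower R (AdicCompletion (maximalIdeal R) R) (AdicCompletion (maximalIdeal R') R') :=
    IsScalarTower.of_algebraMap_eq fun x => by
      rw [show algebraMap (AdicCompletion (maximalIdeal R) R) (AdicCompletion (maximalIdeal R') R')
        (algebraMap R _ x) = algebraMap R' _ (algebraMap R R' x) from RingHom.congr_fun hψ x,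
        ← IsScalarTower.algebraMap_apply]
  haveI := isLocalization_bot_of_bijective (R := AdicCompletion (maximalIdeal R) R)
    (S := AdicCompletion (maximalIdeal R') R') hbij
  have h' : CAlg.IsRegularHom R (AdicCompletion (maximalIdeal R') R') :=
    GrothLib.GeomReg.isRegularHom_localization_right h (⊥ : Submonoid (AdicCompletion (maximalIdeal R) R))
  exact (GrothLib.GeomReg.isRegularHom_localization_left (R := R) (R' := R') (⊥ : Submonoid R)).mpr h'

/-- A localisation of a G-ring is a G-ring. -/
theorem isGRing_localization {A A' : Type u} [CommRing A] [CommRing A'] [Algebra A A'] (M : Submonoid A)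
    [IsLocalization M A'] (h : CAlg.IsGRing A) : CAlg.IsGRing A' := by
  haveI := h.1
  haveI : IsNoetherianRing A' := IsLocalization.isNoetherianRing M A' inferInstance
  refine ⟨inferInstance, fun p _ => ?_⟩
  let q := p.comap (algebraMap A A')
  haveI : IsNoetherianRing (Localization.AtPrime q) := IsLocalization.isNoetherianRing q.primeCompl _ inferInstance
  haveI : IsNoetherianRing (Localization.AtPrime p) := IsLocalization.isNoetherianRing p.primeCompl _ inferInstance
  haveI := IsLocalization.isLocalization_isLocalization_atPrime_isLocalization M (Localization.AtPrime p) p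
  exact isRegularHom_completion_congr
    (IsLocalization.algEquiv q.primeCompl (Localization.AtPrime q) (Localization.AtPrime p)).toRingEquiv (h.2 q)

/-- An algebra of finite type over a localisation comes from one of finite type over the ring. -/
theorem exists_model {A A' S : Type u} [CommRing A] [CommRing A'] [Algebra A A'] (M : Submonoid A)
    [IsLocalization M A'] [CommRing S] [Algebra A' S] [Algebra A S] [IsScalarTower A A' S]
    [Algebra.FiniteType A' S] :
    ∃ T : Subalgebra A S, Algebra.FiniteType A T ∧ IsLocalization (Algebra.algebraMapSubmonoid T M) S := by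
  classical
  obtain ⟨G, hG⟩ := Algebra.FiniteType.out (R := A') (A := S)
  let T := Algebra.adjoin A (G : Set S)
  refine ⟨T, T.fg_iff_finiteType.1 (Subalgebra.fg_adjoin_finset G), ⟨⟨?_, ?_, ?_⟩⟩⟩
  · rintro ⟨_, m, hm, rfl⟩
    have h : IsUnit (algebraMap A S m) := by
      rw [IsScalarTower.algebraMap_apply A A' S]
      exact (IsLocalization.map_units A' ⟨m, hm⟩).map _
    exact h
  · intro z
    have hz : z ∈ Algebra.adjoin A' (G : Set S) := hG ▸ Algebra.mem_top
    suffices h : ∃ m ∈ M, z * algebraMap A S m ∈ T by
      obtain ⟨m, hm, hzm⟩ := h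
      exact ⟨⟨⟨_, hzm⟩, ⟨algebraMap A T m, m, hm, rfl⟩⟩, rfl⟩
    induction hz using Algebra.adjoin_induction with
    | mem x hx => exact ⟨1, M.one_mem, by simpa using Algebra.subset_adjoin hx⟩
    | algebraMap r =>
      obtain ⟨⟨a, m⟩, h⟩ := IsLocalization.surj M r
      refine ⟨m, m.2, ?_⟩
      rw [IsScalarTower.algebraMap_apply A A' S, ← map_mul, h, ← IsScalarTower.algebraMap_apply]
      exact T.algebraMap_mem _
    | add x y _ _ hx hy =>
      obtain ⟨m, hm, hxm⟩ := hx
      obtain ⟨n, hn, hyn⟩ := hy
      refine ⟨m * n, M.mul_mem hm hn, ?_⟩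
      rw [show (x + y) * algebraMap A S (m * n) = (x * algebraMap A S m) * algebraMap A S n +
        (y * algebraMap A S n) * algebraMap A S m by rw [map_mul]; ring]
      exact add_mem (mul_mem hxm (T.algebraMap_mem _)) (mul_mem hyn (T.algebraMap_mem _))
    | mul x y _ _ hx hy =>
      obtain ⟨m, hm, hxm⟩ := hx
      obtain ⟨n, hn, hyn⟩ := hy
      refine ⟨m * n, M.mul_mem hm hn, ?_⟩
      rw [show x * y * algebraMap A S (m * n) = (x * algebraMap A S m) * (y * algebraMap A S n) by
        rw [map_mul]; ring]
      exact mul_mem hxm hyn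
  · intro x y h
    exact ⟨1, by rw [show x = y from Subtype.ext h]⟩

/-- A localisation of a catenary ring is catenary. -/
theorem isCatenary_localization {T S : Type u} [CommRing T] [CommRing S] [Algebra T S] (M : Submonoid T)
    [IsLocalization M S] (h : CAlg.IsCatenary T) : CAlg.IsCatenary S := by
  let f : PrimeSpectrum S → PrimeSpectrum T := PrimeSpectrum.comap (algebraMap T S)
  have hle : ∀ {a b : PrimeSpectrum S}, f a ≤ f b ↔ a ≤ b := by
    intro a b
    refine ⟨fun hab => ?_, fun hab => Ideal.comap_mono hab⟩
    show a.asIdeal ≤ b.asIdeal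
    rw [← IsLocalization.map_under M S a.asIdeal, ← IsLocalization.map_under M S b.asIdeal]
    exact Ideal.map_mono hab
  have hmono : StrictMono f := fun a b hab =>
    lt_of_le_not_ge (hle.2 hab.le) fun h' => hab.not_ge (hle.1 h')
  have hcov : ∀ {a b : PrimeSpectrum S}, a ⋖ b → f a ⋖ f b := by
    intro a b hab
    refine ⟨hmono hab.1, fun c hac hcb => ?_⟩
    have hdisj : Disjoint (M : Set T) c.asIdeal := by
      rw [Set.disjoint_left]
      intro m hm hmc
      exact b.2.ne_top (b.asIdeal.eq_top_of_isUnit_mem (hcb.le hmc) (IsLocalization.map_units S ⟨m, hm⟩))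
    let c' : PrimeSpectrum S := ⟨c.asIdeal.map (algebraMap T S),
      IsLocalization.isPrime_of_isPrime_disjoint M S _ c.2 hdisj⟩
    have hc : f c' = c := PrimeSpectrum.ext (IsLocalization.comap_map_of_isPrime_disjoint M S c.2 hdisj)
    refine hab.2 (c := c') (lt_of_le_not_ge (hle.1 (hc ▸ hac.le)) fun h' => hac.not_ge ?_)
      (lt_of_le_not_ge (hle.1 (hc ▸ hcb.le)) fun h' => hcb.not_ge ?_)
    · exact hc ▸ hle.2 h'
    · exact hc ▸ hle.2 h'
  refine ⟨fun p q hpq => ?_, fun s t hh hl hs ht => ?_⟩
  · obtain ⟨n, hn⟩ := h.1 (f p) (f q) (hle.2 hpq)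
    exact ⟨n, fun s hs hs' => hn (s.map f hmono) (congrArg f hs) (congrArg f hs')⟩
  · exact h.2 (s.map f hmono) (t.map f hmono) (congrArg f hh) (congrArg f hl)
      (fun i => hcov (hs i)) (fun i => hcov (ht i))

/-- A localisation of a universally catenary ring is universally catenary. -/
theorem isUniversallyCatenary_localization {A A' : Type u} [CommRing A] [CommRing A'] [Algebra A A']
    (M : Submonoid A) [IsLocalization M A'] (h : CAlg.IsUniversallyCatenary A) :
    CAlg.IsUniversallyCatenary A' := by
  haveI := h.1
  refine ⟨IsLocalization.isNoetherianRing M A' inferInstance, fun S _ _ hS => ?_⟩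
  haveI := hS
  letI : Algebra A S := ((algebraMap A' S).comp (algebraMap A A')).toAlgebra
  haveI : IsScalarTower A A' S := IsScalarTower.of_algebraMap_eq fun _ => rfl
  obtain ⟨T, hT, hloc⟩ := exists_model (A' := A') (S := S) M
  exact isCatenary_localization (Algebra.algebraMapSubmonoid T M) (h.2 T hT)

/-- A localisation of a J-2 ring is J-2. -/
theorem isJ2_localization {A A' : Type u} [CommRing A] [CommRing A'] [Algebra A A']
    (M : Submonoid A) [IsLocalization M A'] (h : EGA4.IsJ2 A) : EGA4.IsJ2 A' := by
  intro S _ _ hS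
  haveI := hS
  letI : Algebra A S := ((algebraMap A' S).comp (algebraMap A A')).toAlgebra
  haveI : IsScalarTower A A' S := IsScalarTower.of_algebraMap_eq fun _ => rfl
  obtain ⟨T, hT, hloc⟩ := exists_model (A' := A') (S := S) M
  have h1 : EGA4.regLocus S = PrimeSpectrum.comap (algebraMap T S) ⁻¹' EGA4.regLocus T := by
    ext q
    exact GrothLib.J2.isRegularLocalRing_iff_comap (Algebra.algebraMapSubmonoid T M) q.asIdeal
  rw [h1]
  exact (h T hT).preimage (by fun_prop)

/-- **A localisation of an excellent ring is excellent.** -/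
theorem isExcellent_localization {A A' : Type u} [CommRing A] [CommRing A'] [Algebra A A']
    (M : Submonoid A) [IsLocalization M A'] (h : EGA4.IsExcellent A) : EGA4.IsExcellent A' :=
  ⟨(isUniversallyCatenary_localization M h.2.1).1, isUniversallyCatenary_localization M h.2.1,
    isGRing_localization M h.2.2.1, isJ2_localization M h.2.2.2⟩

end GrothLib.Excellent
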