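import Groth.Agent.Lib.AdicExtra.Local
import Groth.Agent.Lib.AdicExtra.FiniteAlg
import Groth.Agent.Lib.GeomReg.FiniteGRing
import Groth.Prelude.Def_EGA4b

/-!
# Completion of a quotient of a local ring
-/

set_option autoImplicit false
set_option linter.style.haveILetI false
universe u

open IsLocalRing TensorProduct

namespace GrothLib.Excellent

/-- The completion of `A ⧸ I` is `(A ⧸ I) ⊗ Â`. -/
theorem exists_cpl_quotient_equiv (A : Type u) [CommRing A] [IsNoetherianRing A] [IsLocalRing A]
    (I : Ideal A) [Nontrivial (A ⧸ I)] [IsLocalRing (A ⧸ I)] :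
    Nonempty (EGA4.Cpl (A ⧸ I) ≃ₐ[A ⧸ I] (A ⧸ I) ⊗[A] EGA4.Cpl A) := by
  let Q := EGA4.Cpl A
  let R := A ⧸ I
  let T := R ⊗[A] Q
  have hI : I ≤ maximalIdeal A := le_maximalIdeal (Ideal.Quotient.nontrivial_iff.1 inferInstance)
  have hsurj : Function.Surjective (Algebra.TensorProduct.includeRight : Q →ₐ[A] T) :=
    TensorProduct.mk_surjective _ _ _ Ideal.Quotient.mk_surjective
  letI : Algebra Q T := (Algebra.TensorProduct.includeRight : Q →ₐ[A] T).toRingHom.toAlgebra
  haveI : IsScalarTower A Q T := IsScalarTower.of_algebraMap_eq fun a =>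
    ((Algebra.TensorProduct.includeRight : Q →ₐ[A] T).commutes a).symm
  haveI : Module.Finite Q T := Module.Finite.of_surjective (Algebra.linearMap Q T) hsurj
  haveI : Module.FaithfullyFlat A Q := Module.FaithfullyFlat.of_flat_of_isLocalHom
  haveI : Nontrivial T := Module.FaithfullyFlat.lTensor_nontrivial A Q R |> fun h =>
    (TensorProduct.comm A R Q).toEquiv.nontrivial
  haveI : IsLocalRing T := IsLocalRing.of_surjective' (algebraMap Q T) hsurj
  haveI : IsLocalHom (algebraMap Q T) := hsurj.isLocalHom
  haveI : IsNoetherianRing T := isNoetherianRing_of_surjective _ _ _ hsurj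
  haveI : IsAdicComplete (maximalIdeal T) T := GrothLib.AdicExtra.isAdicComplete_localRing (R := Q)
  have hmax : (maximalIdeal R).map (algebraMap R T) = maximalIdeal T := by
    have h1 : maximalIdeal R = (maximalIdeal A).map (algebraMap A R) :=
      (IsLocalRing.eq_maximalIdeal (Ideal.IsMaximal.map_of_surjective_of_ker_le
        (f := algebraMap A R) Ideal.Quotient.mk_surjective
        (by rw [Ideal.Quotient.algebraMap_eq, Ideal.mk_ker]; exact hI))).symm
    have h2 : maximalIdeal T = (maximalIdeal Q).map (algebraMap Q T) :=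
      (IsLocalRing.eq_maximalIdeal (Ideal.IsMaximal.map_of_surjective_of_ker_le
        (f := algebraMap Q T) hsurj
        (le_maximalIdeal (RingHom.ker_ne_top _)))).symm
    rw [h1, Ideal.map_map, ← IsScalarTower.algebraMap_eq, h2, AdicCompletion.maximalIdeal_eq_map,
      Ideal.map_map, ← IsScalarTower.algebraMap_eq]
  haveI : IsLocalHom (algebraMap R T) := ((local_hom_TFAE _).out 0 2 rfl rfl).mpr hmax.le
  have hres : Function.Bijective (ResidueField.map (algebraMap R T)) := by
    refine ⟨RingHom.injective _, fun x => ?_⟩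
    obtain ⟨t, rfl⟩ := residue_surjective x
    obtain ⟨q, rfl⟩ := hsurj t
    obtain ⟨y, hy⟩ := (AdicCompletion.residueField_map_bijective A).2 (residue Q q)
    obtain ⟨a, rfl⟩ := residue_surjective y
    refine ⟨residue R (algebraMap A R a), (ResidueField.map_residue _ _).trans ?_⟩
    rw [← IsScalarTower.algebraMap_apply, IsScalarTower.algebraMap_apply A Q T]
    rw [ResidueField.map_residue] at hy
    have := congrArg (ResidueField.map (algebraMap Q T)) hy
    rw [ResidueField.map_residue, ResidueField.map_residue] at this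
    exact this
  obtain ⟨ψ, hψ⟩ := GrothLib.GeomReg.exists_completion_map R T
  have hbij := GrothLib.AdicExtra.bijective_completion ψ hψ hmax hres
  let e : EGA4.Cpl R ≃+* T :=
    (RingEquiv.ofBijective ψ hbij).trans (AdicCompletion.ofAlgEquiv (maximalIdeal T)).symm.toRingEquiv
  refine ⟨AlgEquiv.ofRingEquiv (f := e) fun r => ?_⟩
  show (AdicCompletion.ofAlgEquiv (maximalIdeal T)).symm (ψ (algebraMap R (EGA4.Cpl R) r)) = _
  rw [show ψ (algebraMap R _ r) = algebraMap T _ (algebraMap R T r) from RingHom.congr_fun hψ r,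
    AdicCompletion.algebraMap_apply]
  exact AdicCompletion.ofAlgEquiv_symm_of (maximalIdeal T) _

end GrothLib.Excellent
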