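import Groth.Agent.Lib.Serre.Smooth
import Groth.Agent.Lib.NormalSerre.Serre
import Groth.Agent.Lib.EtBasicB.LocalRings
import Groth.Agent.Lib.CMFree.Regular
import Groth.Prelude.Def_EGA4b
import Mathlib.RingTheory.Regular.Flat

/-!
# Regularity and normality along flat maps with regular, resp. normal, fibres
-/

set_option autoImplicit false
set_option linter.style.haveILetI false
universe u

open IsLocalRing TensorProduct RingTheory.Sequence

namespace GrothLib.Excellent

variable {A B : Type u} [CommRing A] [CommRing B] [Algebra A B]

/-- A local ring of the fibre is a local ring of a point of the fibre ring. -/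
theorem exists_fibre_point (P : Ideal B) [P.IsPrime] :
    ∃ (Q : PrimeSpectrum ((P.comap (algebraMap A B)).Fiber B)),
      Nonempty (Localization.AtPrime Q.asIdeal ≃+* EGA4.FibLocRing A B P) := by
  let p := P.comap (algebraMap A B)
  haveI : P.LiesOver p := ⟨rfl⟩
  let Q := PrimeSpectrum.primesOverOrderIsoFiber A B p ⟨P, inferInstance, ⟨rfl⟩⟩
  have hQ : Q.asIdeal.comap Algebra.TensorProduct.includeRight = P := by
    rw [← PrimeSpectrum.coe_primesOverOrderIsoFiber_symm_apply p Q, OrderIso.symm_apply_apply]
  refine ⟨Q, ?_⟩
  suffices key : Nonempty (Localization.AtPrime Q.asIdeal ≃+*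
      (Localization.AtPrime (Q.asIdeal.comap Algebra.TensorProduct.includeRight) ⧸
        p.map (algebraMap A (Localization.AtPrime (Q.asIdeal.comap Algebra.TensorProduct.includeRight))))) from
    (fun (r : Ideal B) [r.IsPrime] (e : r = P) (h : Nonempty (Localization.AtPrime Q.asIdeal ≃+*
        (Localization.AtPrime r ⧸ p.map (algebraMap A (Localization.AtPrime r))))) =>
      (by subst e; exact h : Nonempty (Localization.AtPrime Q.asIdeal ≃+* EGA4.FibLocRing A B P))) _ hQ key
  have hover : (Q.asIdeal.comap Algebra.TensorProduct.includeRight : Ideal B).LiesOver p := by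
    rw [hQ]; exact ⟨rfl⟩
  let _ := Localization.AtPrime.algebraOfLiesOver p
    (Q.asIdeal.comap Algebra.TensorProduct.includeRight : Ideal B)
  exact ⟨(Ideal.Fiber.localizationAlgEquivQuotient p Q.asIdeal).toRingEquiv⟩

theorem isRegularLocalRing_fibLocRing (P : Ideal B) [P.IsPrime]
    (h : IsRegularRing ((P.comap (algebraMap A B)).Fiber B)) : IsRegularLocalRing (EGA4.FibLocRing A B P) := by
  obtain ⟨Q, ⟨e⟩⟩ := exists_fibre_point (A := A) P
  haveI := h
  haveI : IsRegularLocalRing (Localization.AtPrime Q.asIdeal) := IsRegularRing.isRegularLocalRing_localization _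
  exact IsRegularLocalRing.of_ringEquiv (R := Localization.AtPrime Q.asIdeal) e

theorem normal_fibLocRing (P : Ideal B) [P.IsPrime]
    (h : EGA4.IsNormalRing ((P.comap (algebraMap A B)).Fiber B)) :
    IsDomain (EGA4.FibLocRing A B P) ∧ IsIntegrallyClosed (EGA4.FibLocRing A B P) := by
  obtain ⟨Q, ⟨e⟩⟩ := exists_fibre_point (A := A) P
  obtain ⟨_, _⟩ := h Q.asIdeal
  exact ⟨e.symm.injective.isDomain, IsIntegrallyClosed.of_equiv (R := Localization.AtPrime Q.asIdeal) e⟩

theorem map_maximalIdeal_eq (P : Ideal B) [P.IsPrime] (p : Ideal A) [p.IsPrime] [P.LiesOver p] :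
    letI := Localization.AtPrime.algebraOfLiesOver p P
    (maximalIdeal (Localization.AtPrime p)).map
      (algebraMap (Localization.AtPrime p) (Localization.AtPrime P)) = p.map (algebraMap A (Localization.AtPrime P)) := by
  letI := Localization.AtPrime.algebraOfLiesOver p P
  rw [← Localization.AtPrime.map_eq_maximalIdeal, Ideal.map_map, ← IsScalarTower.algebraMap_eq]

theorem flat_localization [Module.Flat A B] (P : Ideal B) [P.IsPrime] (p : Ideal A) [p.IsPrime] [P.LiesOver p] :
    letI := Localization.AtPrime.algebraOfLiesOver p P
    Module.Flat (Localization.AtPrime p) (Localization.AtPrime P) := by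
  letI := Localization.AtPrime.algebraOfLiesOver p P
  exact (Module.flat_iff_of_isLocalization (Localization.AtPrime p) p.primeCompl _).mpr
    (Module.Flat.trans A B _)

variable [IsNoetherianRing A] [IsNoetherianRing B] [Module.Flat A B]

/-- With regular fibres, regularity upstairs and downstairs are equivalent. -/
theorem isRegularLocalRing_iff_of_fibre (P : Ideal B) [P.IsPrime]
    (h : IsRegularLocalRing (EGA4.FibLocRing A B P)) :
    IsRegularLocalRing (Localization.AtPrime P) ↔
      IsRegularLocalRing (Localization.AtPrime (P.comap (algebraMap A B))) := by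
  let p := P.comap (algebraMap A B)
  haveI : P.LiesOver p := ⟨rfl⟩
  letI := Localization.AtPrime.algebraOfLiesOver p P
  haveI := flat_localization (A := A) P p
  haveI : IsNoetherianRing (Localization.AtPrime p) := IsLocalization.isNoetherianRing p.primeCompl _ inferInstance
  haveI : IsNoetherianRing (Localization.AtPrime P) := IsLocalization.isNoetherianRing P.primeCompl _ inferInstance
  refine ⟨fun hP => ?_, fun hp => ?_⟩
  · haveI := hP
    exact GrothLib.Serre.isRegularLocalRing_of_flat (Localization.AtPrime p) (Localization.AtPrime P)
  · haveI := hp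
    refine GrothLib.Serre.isRegularLocalRing_of_flat_of_fibre (Localization.AtPrime p) _ ?_
    exact IsRegularLocalRing.of_ringEquiv (R := EGA4.FibLocRing A B P)
      (Ideal.quotEquivOfEq (map_maximalIdeal_eq P p).symm)

/-- Descent of normality along flat maps. -/
theorem normal_comap (P : Ideal B) [P.IsPrime]
    (h : IsDomain (Localization.AtPrime P) ∧ IsIntegrallyClosed (Localization.AtPrime P)) :
    IsDomain (Localization.AtPrime (P.comap (algebraMap A B))) ∧
      IsIntegrallyClosed (Localization.AtPrime (P.comap (algebraMap A B))) := by
  obtain ⟨_, _⟩ := h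
  let p := P.comap (algebraMap A B)
  haveI : P.LiesOver p := ⟨rfl⟩
  letI := Localization.AtPrime.algebraOfLiesOver p P
  haveI := flat_localization (A := A) P p
  exact GrothLib.EtBasicB.normal_of_normal_target (Localization.AtPrime p) (Localization.AtPrime P)

theorem height_maximalIdeal_localization {T : Type u} [CommRing T] (p : Ideal T) [p.IsPrime] :
    (maximalIdeal (Localization.AtPrime p)).height = p.height := by
  have h := IsLocalization.AtPrime.ringKrullDim_eq_height p (Localization.AtPrime p)
  rw [← maximalIdeal_height_eq_ringKrullDim] at h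
  exact_mod_cast h

/-- **Ascent of normality along flat maps with normal fibres.** -/
theorem normal_of_flat (hA : ∀ (P : Ideal B) [P.IsPrime],
      IsDomain (Localization.AtPrime (P.comap (algebraMap A B))) ∧
        IsIntegrallyClosed (Localization.AtPrime (P.comap (algebraMap A B))))
    (hfib : ∀ (P : Ideal B) [P.IsPrime],
      IsDomain (EGA4.FibLocRing A B P) ∧ IsIntegrallyClosed (EGA4.FibLocRing A B P))
    (q : Ideal B) [q.IsPrime] :
    IsDomain (Localization.AtPrime q) ∧ IsIntegrallyClosed (Localization.AtPrime q) := by
  refine GrothLib.NormalSerre.isDomain_isIntegrallyClosed_localization B (fun P _ hP => ?_)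
    (fun P _ hP => ?_) q
  all_goals
    let p := P.comap (algebraMap A B)
    haveI : P.LiesOver p := ⟨rfl⟩
    letI := Localization.AtPrime.algebraOfLiesOver p P
    haveI := flat_localization (A := A) P p
    haveI : IsNoetherianRing (Localization.AtPrime p) := IsLocalization.isNoetherianRing p.primeCompl _ inferInstance
    haveI : IsNoetherianRing (Localization.AtPrime P) := IsLocalization.isNoetherianRing P.primeCompl _ inferInstance
    obtain ⟨_, _⟩ := hA P
    obtain ⟨_, _⟩ := hfib P
    haveI : IsNoetherianRing (EGA4.FibLocRing A B P) := inferInstance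
    haveI : IsLocalRing (EGA4.FibLocRing A B P) :=
      IsLocalRing.of_surjective' (Ideal.Quotient.mk _) Ideal.Quotient.mk_surjective
    have : (maximalIdeal (Localization.AtPrime P)).LiesOver (maximalIdeal (Localization.AtPrime p)) :=
      ⟨((((local_hom_TFAE (algebraMap (Localization.AtPrime p) (Localization.AtPrime P))).out 0 4 rfl rfl).mp inferInstance)).symm⟩
    have hsum := Ideal.height_eq_height_add_of_liesOver_of_hasGoingDown (maximalIdeal (Localization.AtPrime p))
      (maximalIdeal (Localization.AtPrime P))
    rw [map_maximalIdeal_eq P p, GrothLib.RegLoc.map_maximalIdeal_quotient, height_maximalIdeal_localization,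
      height_maximalIdeal_localization] at hsum
  · haveI : IsRegularLocalRing (EGA4.FibLocRing A B P) :=
      GrothLib.NormalSerre.isRegularLocalRing_of_isIntegrallyClosed (le_trans (le_add_self.trans hsum.ge) hP)
    haveI : IsRegularLocalRing (Localization.AtPrime p) :=
      GrothLib.NormalSerre.isRegularLocalRing_of_isIntegrallyClosed
        (by rw [height_maximalIdeal_localization]; exact le_trans (le_self_add.trans hsum.ge) hP)
    haveI := (isRegularLocalRing_iff_of_fibre (A := A) P inferInstance).2 inferInstance
    exact ⟨GrothLib.CMFree.isDomain_of_isRegularLocalRing _,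
      GrothLib.RegLoc.isIntegrallyClosed_of_isRegularLocalRing _⟩
  · haveI : Module.FaithfullyFlat (Localization.AtPrime p) (Localization.AtPrime P) :=
      Module.FaithfullyFlat.of_flat_of_isLocalHom
    let φ := algebraMap (Localization.AtPrime p) (Localization.AtPrime P)
    by_cases hp2 : 1 < p.height
    · obtain ⟨x, y, hx, hy, hxy⟩ := GrothLib.NormalSerre.exists_pair_of_isIntegrallyClosed
        (A := Localization.AtPrime p) (by rwa [height_maximalIdeal_localization])
      refine ⟨φ x, φ y, map_nonunit φ x hx, map_nonunit φ y hy, ?_⟩
      simpa using hxy.of_flat (S := Localization.AtPrime P)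
    · let K := p.map (algebraMap A (Localization.AtPrime P))
      have hK : K = (maximalIdeal (Localization.AtPrime p)).map φ := (map_maximalIdeal_eq P p).symm
      by_cases hp0 : p.height = 0
      · -- the fibre is the whole local ring
        have hm : maximalIdeal (Localization.AtPrime p) = ⊥ := by
          rw [← height_maximalIdeal_localization] at hp0
          exact (Ideal.height_eq_zero_iff_eq_bot).1 hp0
        have hK0 : K = ⊥ := by rw [hK, hm, Ideal.map_bot]
        let e : EGA4.FibLocRing A B P ≃+* Localization.AtPrime P :=
          (Ideal.quotEquivOfEq hK0).trans (RingEquiv.quotientBot _)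
        haveI : IsDomain (Localization.AtPrime P) := e.symm.injective.isDomain
        haveI : IsIntegrallyClosed (Localization.AtPrime P) := IsIntegrallyClosed.of_equiv e
        exact GrothLib.NormalSerre.exists_pair_of_isIntegrallyClosed (A := Localization.AtPrime P)
          (by rwa [height_maximalIdeal_localization])
      · have hp1 : p.height = 1 := le_antisymm (not_lt.1 hp2) (Order.one_le_iff_pos.2 (pos_iff_ne_zero.2 hp0))
        haveI : IsRegularLocalRing (Localization.AtPrime p) :=
          GrothLib.NormalSerre.isRegularLocalRing_of_isIntegrallyClosed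
            (by rw [height_maximalIdeal_localization, hp1])
        have hspan : (maximalIdeal (Localization.AtPrime p)).spanFinrank = 1 := by
          have := (isRegularLocalRing_iff (Localization.AtPrime p)).1 inferInstance
          rw [← maximalIdeal_height_eq_ringKrullDim, height_maximalIdeal_localization, hp1] at this
          exact_mod_cast this
        obtain ⟨s, hs, hsp⟩ := Submodule.FG.exists_span_finset_card_eq_spanFinrank
          (IsNoetherian.noetherian (maximalIdeal (Localization.AtPrime p)))
        rw [hspan, Finset.card_eq_one] at hs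
        obtain ⟨x, rfl⟩ := hs
        have hx : maximalIdeal (Localization.AtPrime p) = Submodule.span _ {x} := by simpa using hsp.symm
        have hxm : x ∈ maximalIdeal (Localization.AtPrime p) := hx ▸ Submodule.mem_span_singleton_self x
        have hx0 : x ≠ 0 := by
          intro h0
          apply hp0
          rw [← height_maximalIdeal_localization p, show maximalIdeal (Localization.AtPrime p) = ⊥ by
            rw [hx, h0]; simp, Ideal.height_bot]
        have hKx : K = Ideal.span {φ x} := by
          rw [hK, hx, Ideal.submodule_span_eq, Ideal.map_span, Set.image_singleton]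
        have hfm : maximalIdeal (EGA4.FibLocRing A B P) ≠ ⊥ := by
          intro h0
          have hh : (maximalIdeal (EGA4.FibLocRing A B P)).height = 0 := by rw [h0, Ideal.height_bot]
          rw [hp1, hh, add_zero] at hsum
          exact absurd hP (not_lt.2 hsum.le)
        obtain ⟨y', hy', hy0⟩ := Submodule.exists_mem_ne_zero_of_ne_bot hfm
        obtain ⟨y, rfl⟩ := Ideal.Quotient.mk_surjective y'
        refine ⟨φ x, y, map_nonunit φ x hxm, ?_, ?_⟩
        · rw [IsLocalRing.mem_maximalIdeal] at hy' ⊢
          exact fun hu => hy' (hu.map _)
        · rw [isWeaklyRegular_cons_iff, isWeaklyRegular_cons_iff]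
          refine ⟨(isRegular_iff_ne_zero.2 hx0).left.isSMulRegular.of_flat, ?_, .nil _ _⟩
          let e : QuotSMulTop (φ x) (Localization.AtPrime P) ≃ₗ[Localization.AtPrime P] EGA4.FibLocRing A B P :=
            Submodule.quotEquivOfEq _ _ (by
              rw [← Submodule.ideal_span_singleton_smul, smul_eq_mul, Ideal.mul_top]
              exact hKx.symm)
          rw [e.isSMulRegular_congr y]
          intro a b hab
          obtain ⟨a, rfl⟩ := Ideal.Quotient.mk_surjective a
          obtain ⟨b, rfl⟩ := Ideal.Quotient.mk_surjective b
          refine mul_left_cancel₀ hy0 ?_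
          rw [← map_mul, ← map_mul]
          exact hab

end GrothLib.Excellent
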