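import Groth.Agent.Lib.Excellent.FormalFibres
import Groth.Agent.Lib.Flatness.Fibre
import Mathlib.RingTheory.Localization.BaseChange
import Mathlib.RingTheory.Flat.Localization

/-!
# Geometrically reduced fibres, tested on fields
-/

set_option autoImplicit false
set_option linter.style.haveILetI false
universe u

open TensorProduct

namespace GrothLib.Excellent

variable {A B : Type u} [CommRing A] [CommRing B] [Algebra A B]

theorem isReduced_congr {R S : Type u} [CommRing R] [CommRing S] (e : R ≃+* S) [IsReduced R] : IsReduced S :=
  isReduced_of_injective e.symm e.symm.injective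

/-- Geometric reducedness over a field is tested on finite extensions. -/
theorem isGeometricallyReduced_of_finite {k S : Type u} [Field k] [CommRing S] [Algebra k S]
    (h : ∀ (L : Type u) [Field L] [Algebra k L], Module.Finite k L → IsReduced (L ⊗[k] S)) :
    Algebra.IsGeometricallyReduced k S := by
  rw [Algebra.isGeometricallyReduced_field_iff]
  suffices IsReduced (S ⊗[k] AlgebraicClosure k) from
    isReduced_of_injective _ (Algebra.TensorProduct.comm k (AlgebraicClosure k) S).injective
  refine IsReduced.tensorProduct_of_flat_of_forall_fg fun B hB => ?_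
  have : Algebra.IsIntegral k B := by
    have : Algebra.IsAlgebraic k (AlgebraicClosure k) := inferInstance
    exact ⟨fun x => (isIntegral_algHom_iff B.val Subtype.val_injective).1
      (Algebra.IsIntegral.isIntegral (x : AlgebraicClosure k))⟩
  have : Algebra.FiniteType k B := B.fg_iff_finiteType.1 hB
  have : Module.Finite k B := Algebra.IsIntegral.finite
  let _ : Field B := (isField_of_isIntegral_of_isField' (R := k) (Field.toIsField k)).toField
  haveI := h B this
  exact isReduced_congr (Algebra.TensorProduct.comm k B S).toRingEquiv

theorem isReduced_field_tensor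
    (h : ∀ (p : Ideal A) [p.IsPrime], Algebra.IsGeometricallyReduced p.ResidueField (p.Fiber B))
    (K : Type u) [Field K] [Algebra A K] : IsReduced (K ⊗[A] B) := by
  haveI := isReduced_tensor_field h K
  exact isReduced_congr (Algebra.TensorProduct.comm A B K).toRingEquiv

theorem geomReduced_fibres_of_fields
    (h : ∀ (K : Type u) [Field K] [Algebra A K], IsReduced (K ⊗[A] B)) (p : Ideal A) [p.IsPrime] :
    Algebra.IsGeometricallyReduced p.ResidueField (p.Fiber B) := by
  refine isGeometricallyReduced_of_finite fun L _ _ hL => ?_
  letI : Algebra A L := ((algebraMap p.ResidueField L).comp (algebraMap A p.ResidueField)).toAlgebra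
  haveI : IsScalarTower A p.ResidueField L := IsScalarTower.of_algebraMap_eq fun _ => rfl
  haveI := h L
  exact isReduced_congr (Algebra.TensorProduct.cancelBaseChange A p.ResidueField L L B).symm.toRingEquiv

/-- Reduced modules: tensoring with a reduced algebra on the left. -/
theorem isReduced_tensor_left [IsNoetherianRing A] [Module.Flat A B]
    (h : ∀ (p : Ideal A) [p.IsPrime], Algebra.IsGeometricallyReduced p.ResidueField (p.Fiber B))
    (T : Type u) [CommRing T] [Algebra A T] [IsReduced T] : IsReduced (T ⊗[A] B) := by
  haveI := isReduced_tensor h T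
  exact isReduced_congr (Algebra.TensorProduct.comm A B T).toRingEquiv

variable {C : Type u} [CommRing C] [Algebra B C] [Algebra A C] [IsScalarTower A B C]

theorem geomReduced_comp [IsNoetherianRing B] [Module.Flat B C]
    (hAB : ∀ (p : Ideal A) [p.IsPrime], Algebra.IsGeometricallyReduced p.ResidueField (p.Fiber B))
    (hBC : ∀ (q : Ideal B) [q.IsPrime], Algebra.IsGeometricallyReduced q.ResidueField (q.Fiber C))
    (p : Ideal A) [p.IsPrime] : Algebra.IsGeometricallyReduced p.ResidueField (p.Fiber C) := by
  refine geomReduced_fibres_of_fields (fun K _ _ => ?_) p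
  haveI := isReduced_field_tensor hAB K
  haveI : IsReduced (B ⊗[A] K) := isReduced_congr (Algebra.TensorProduct.comm A K B).toRingEquiv
  haveI := isReduced_tensor hBC (B ⊗[A] K)
  exact isReduced_congr
    ((Algebra.TensorProduct.cancelBaseChange A B C C K).toRingEquiv.trans
      (Algebra.TensorProduct.comm A C K).toRingEquiv)

theorem geomReduced_of_comp [Module.FaithfullyFlat B C]
    (hAC : ∀ (p : Ideal A) [p.IsPrime], Algebra.IsGeometricallyReduced p.ResidueField (p.Fiber C))
    (p : Ideal A) [p.IsPrime] : Algebra.IsGeometricallyReduced p.ResidueField (p.Fiber B) := by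
  refine geomReduced_fibres_of_fields (fun K _ _ => ?_) p
  haveI := isReduced_field_tensor hAC K
  haveI : IsReduced (C ⊗[B] (B ⊗[A] K)) := isReduced_congr
    ((Algebra.TensorProduct.comm A K C).toRingEquiv.trans
      (Algebra.TensorProduct.cancelBaseChange A B C C K).symm.toRingEquiv)
  haveI : IsReduced (B ⊗[A] K) := isReduced_of_injective
    (Algebra.TensorProduct.includeRight : B ⊗[A] K →ₐ[B] C ⊗[B] (B ⊗[A] K))
    (Module.FaithfullyFlat.tensorProduct_mk_injective (A := B) (B := C) (B ⊗[A] K))
  exact isReduced_congr (Algebra.TensorProduct.comm A B K).toRingEquiv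

omit [Algebra A C] [IsScalarTower A B C] in
/-- Localising source and target keeps the fibres geometrically reduced. -/
theorem geomReduced_localization (S : Submonoid A)
    (h : ∀ (p : Ideal A) [p.IsPrime], Algebra.IsGeometricallyReduced p.ResidueField (p.Fiber B))
    {A' : Type u} [CommRing A'] [Algebra A A'] [IsLocalization S A'] [Algebra A' C] [Algebra A C]
    [IsScalarTower A A' C] [IsScalarTower A B C] (M : Submonoid B) [IsLocalization M C]
    (p : Ideal A') [p.IsPrime] : Algebra.IsGeometricallyReduced p.ResidueField (p.Fiber C) := by
  refine geomReduced_fibres_of_fields (fun K _ _ => ?_) p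
  letI : Algebra A K := ((algebraMap A' K).comp (algebraMap A A')).toAlgebra
  haveI : IsScalarTower A A' K := IsScalarTower.of_algebraMap_eq fun _ => rfl
  haveI := isReduced_field_tensor h K
  haveI : IsReduced (B ⊗[A] K) := isReduced_congr (Algebra.TensorProduct.comm A K B).toRingEquiv
  haveI : IsReduced ((B ⊗[A] K) ⊗[B] C) :=
    isReduced_localizationPreserves (Algebra.algebraMapSubmonoid (B ⊗[A] K) M) _ inferInstance
  haveI : IsReduced (K ⊗[A] C) := isReduced_congr
    ((Algebra.TensorProduct.comm B (B ⊗[A] K) C).toRingEquiv.trans
      ((Algebra.TensorProduct.cancelBaseChange A B C C K).toRingEquiv.trans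
        (Algebra.TensorProduct.comm A C K).toRingEquiv))
  exact isReduced_congr (IsLocalization.algebraTensorEquiv S A' K C).symm.toRingEquiv

end GrothLib.Excellent
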