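import Groth.Agent.Lib.Excellent.FlatFibres
import Groth.Agent.Lib.Excellent.NorFiniteType

/-!
# Pointwise ascent of normality
-/

set_option autoImplicit false
set_option linter.style.haveILetI false
universe u

namespace GrothLib.Excellent

theorem fibLocRing_localization_equiv {A B : Type u} [CommRing A] [CommRing B] [Algebra A B] (q : Ideal B) [q.IsPrime]
    (P : Ideal (Localization.AtPrime q)) [P.IsPrime] :
    Nonempty (EGA4.FibLocRing A B (P.comap (algebraMap B (Localization.AtPrime q))) ≃+*
      EGA4.FibLocRing A (Localization.AtPrime q) P) := by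
  let P' := P.comap (algebraMap B (Localization.AtPrime q))
  let e : Localization.AtPrime P' ≃ₐ[B] Localization.AtPrime P :=
    IsLocalization.localizationLocalizationAtPrimeIsoLocalization q.primeCompl P
  refine ⟨Ideal.quotientEquiv _ _ e.toRingEquiv ?_⟩
  rw [Ideal.map_map, show P'.comap (algebraMap A B) = P.comap (algebraMap A (Localization.AtPrime q)) by
    rw [Ideal.comap_comap, ← IsScalarTower.algebraMap_eq]]
  congr 1
  exact RingHom.ext fun a => ((e.restrictScalars A).commutes a).symm

/-- Pointwise ascent of normality along flat maps with normal fibres. -/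
theorem normal_of_flat_local (A B : Type u) [CommRing A] [CommRing B] [IsNoetherianRing A] [IsNoetherianRing B]
    [Algebra A B] [Module.Flat A B]
    (hfib : ∀ (q : Ideal B) [q.IsPrime], IsDomain (EGA4.FibLocRing A B q) ∧ IsIntegrallyClosed (EGA4.FibLocRing A B q))
    (q : Ideal B) [q.IsPrime]
    [IsDomain (Localization.AtPrime (q.comap (algebraMap A B)))]
    [IsIntegrallyClosed (Localization.AtPrime (q.comap (algebraMap A B)))] :
    IsDomain (Localization.AtPrime q) ∧ IsIntegrallyClosed (Localization.AtPrime q) := by
  haveI : Module.Flat A (Localization.AtPrime q) := Module.Flat.trans A B _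
  haveI : IsNoetherianRing (Localization.AtPrime q) :=
    IsLocalization.isNoetherianRing q.primeCompl _ inferInstance
  have hloc : (⟨q.comap (algebraMap A B), inferInstance⟩ : PrimeSpectrum A) ∈ EGA4.norLocus A :=
    ⟨inferInstance, inferInstance⟩
  have h := GrothLib.Excellent.normal_of_flat (A := A) (B := Localization.AtPrime q) (fun P _ => ?_)
    (fun P _ => ?_) (IsLocalRing.maximalIdeal _)
  · have hm : (IsLocalRing.maximalIdeal (Localization.AtPrime q)).comap (algebraMap B (Localization.AtPrime q)) = q :=
      IsLocalization.AtPrime.comap_maximalIdeal (Localization.AtPrime q) q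
    exact GrothLib.Excellent.isNormalAt_congr hm ((GrothLib.Excellent.isNormalAt_localization q.primeCompl _).1 h)
  · refine GrothLib.Excellent.norLocus_stable (p := ⟨P.comap (algebraMap A (Localization.AtPrime q)), inferInstance⟩) ?_ hloc
    show P.comap (algebraMap A (Localization.AtPrime q)) ≤ q.comap (algebraMap A B)
    rw [IsScalarTower.algebraMap_eq A B (Localization.AtPrime q), ← Ideal.comap_comap]
    refine Ideal.comap_mono (le_trans (Ideal.comap_mono (IsLocalRing.le_maximalIdeal (Ideal.IsPrime.ne_top inferInstance))) ?_)
    exact (IsLocalization.AtPrime.comap_maximalIdeal (Localization.AtPrime q) q).le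
  · obtain ⟨e⟩ := fibLocRing_localization_equiv (A := A) q P
    obtain ⟨_, _⟩ := hfib (P.comap (algebraMap B (Localization.AtPrime q)))
    exact ⟨e.symm.injective.isDomain, IsIntegrallyClosed.of_equiv e⟩

end GrothLib.Excellent
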