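import Groth.Agent.Lib.Excellent.NorLocus
import Groth.Agent.Lib.NormalSerre.Serre
import Groth.Agent.Lib.CMFree.Regular
import Mathlib.RingTheory.Polynomial.ScaleRoots

/-!
# Openness of the normal locus: two criteria
-/

set_option autoImplicit false
set_option linter.style.haveILetI false
universe u

open IsLocalRing

namespace GrothLib.Excellent

theorem regLocus_subset_norLocus {A : Type u} [CommRing A] : EGA4.regLocus A ⊆ EGA4.norLocus A := by
  intro p hp
  haveI : IsRegularLocalRing (Localization.AtPrime p.asIdeal) := hp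
  haveI := GrothLib.CMFree.isDomain_of_isRegularLocalRing (Localization.AtPrime p.asIdeal)
  exact ⟨inferInstance, GrothLib.RegLoc.isIntegrallyClosed_of_isRegularLocalRing _⟩

theorem mem_regLocus_of_minimal {A : Type u} [CommRing A] [IsNoetherianRing A] {p : PrimeSpectrum A}
    (hmin : p.asIdeal ∈ minimalPrimes A) (hp : p ∈ EGA4.norLocus A) : p ∈ EGA4.regLocus A := by
  haveI := hp.1
  have hP : ((⊥ : Ideal (Localization.AtPrime p.asIdeal)).comap (algebraMap A _)) = p.asIdeal := by
    have hle : (⊥ : Ideal (Localization.AtPrime p.asIdeal)).comap (algebraMap A _) ≤ p.asIdeal := by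
      intro x hx
      by_contra hxp
      exact (IsLocalization.map_units (Localization.AtPrime p.asIdeal) (⟨x, hxp⟩ : p.asIdeal.primeCompl)).ne_zero hx
    exact le_antisymm hle (hmin.2 ⟨Ideal.IsPrime.comap _, bot_le⟩ hle)
  have hm : maximalIdeal (Localization.AtPrime p.asIdeal) = ⊥ := by
    rw [← Localization.AtPrime.map_eq_maximalIdeal]
    exact le_bot_iff.1 ((Ideal.map_mono hP.ge).trans Ideal.map_comap_le)
  letI := ((IsLocalRing.isField_iff_maximalIdeal_eq).2 hm).toField
  exact (inferInstance : IsRegularLocalRing (Localization.AtPrime p.asIdeal))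

/-- An open regular locus gives an open normal locus. -/
theorem isOpen_norLocus_of_isOpen_regLocus {A : Type u} [CommRing A] [IsNoetherianRing A]
    (h : IsOpen (EGA4.regLocus A)) : IsOpen (EGA4.norLocus A) :=
  isOpen_norLocus fun _ hP hN => isN0_of_nhd hP h (mem_regLocus_of_minimal hP hN) regLocus_subset_norLocus

/-- A finite normalisation gives generically normal components. -/
theorem isN0_quotient_of_finite {A : Type u} [CommRing A] [IsNoetherianRing A] [IsReduced A]
    (h : Module.Finite A (integralClosure A (FractionRing A))) (P : Ideal A) [P.IsPrime]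
    (hP : P ∈ minimalPrimes A) : IsN0 (A ⧸ P) := by
  classical
  let B := A ⧸ P
  let K := FractionRing B
  let F := FractionRing A
  have hfin := minimalPrimes.finite_of_isNoetherianRing A
  let others := hfin.toFinset.filter fun Q => Q ≠ P
  have hno : ∀ Q ∈ others, Q.IsPrime ∧ Q ∈ minimalPrimes A ∧ Q ≠ P := fun Q hQ => by
    obtain ⟨h1, h2⟩ := Finset.mem_filter.1 hQ
    exact ⟨(hfin.mem_toFinset.1 h1).1.1, hfin.mem_toFinset.1 h1, h2⟩
  obtain ⟨g, hgo, hgP⟩ : ∃ g ∈ others.inf id, g ∉ P := by
    refine Set.not_subset.1 fun hle => ?_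
    obtain ⟨Q, hQ, hQP⟩ := (Ideal.IsPrime.inf_le' (inferInstance : P.IsPrime)).1 hle
    exact (hno Q hQ).2.2 (le_antisymm hQP (hP.2 ⟨(hno Q hQ).1, bot_le⟩ hQP))
  obtain ⟨w, hwP, hwo⟩ := GrothLib.NormalSerre.exists_notMem_of_not_le (S := (others : Set (Ideal A)))
    others.finite_toSet (fun Q hQ => (hno Q hQ).1) (J := P)
    fun Q hQ hle => (hno Q hQ).2.2 (le_antisymm ((hno Q hQ).2.1.2 ⟨‹_›, bot_le⟩ hle) hle)
  have hgo' : ∀ Q ∈ others, g ∈ Q := fun Q hQ => (Finset.inf_le (f := id) hQ : others.inf id ≤ Q) hgo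
  -- the maps to the components
  have hnz : ∀ (Q : Ideal A), Q ∈ minimalPrimes A → ∀ x ∈ nonZeroDivisors A, x ∉ Q := fun Q hQ x hx hxQ =>
    Set.disjoint_left.mp (Ideal.disjoint_nonZeroDivisors_of_mem_minimalPrimes hQ) hxQ hx
  have hzero : ∀ x : A, (∀ Q ∈ minimalPrimes A, x ∈ Q) → x = 0 := fun x hx => by
    have : x ∈ (⊥ : Ideal A).radical := by
      rw [← Ideal.sInf_minimalPrimes, Submodule.mem_sInf]
      exact hx
    obtain ⟨n, hn⟩ := this
    exact IsReduced.eq_zero x ⟨n, hn⟩
  let ψ : ∀ (Q : Ideal A) [Q.IsPrime], Q ∈ minimalPrimes A → F →+* FractionRing (A ⧸ Q) := fun Q _ hQ =>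
    IsLocalization.lift (M := nonZeroDivisors A) (g := (algebraMap (A ⧸ Q) (FractionRing (A ⧸ Q))).comp
      (Ideal.Quotient.mk Q)) fun y => isUnit_iff_ne_zero.2 fun h => hnz Q hQ y.1 y.2
        (Ideal.Quotient.eq_zero_iff_mem.1 (IsFractionRing.injective _ _ (h.trans (map_zero _).symm)))
  have hψ : ∀ (Q : Ideal A) [Q.IsPrime] (hQ : Q ∈ minimalPrimes A) (x : A),
      ψ Q hQ (algebraMap A F x) = algebraMap (A ⧸ Q) (FractionRing (A ⧸ Q)) (Ideal.Quotient.mk Q x) :=
    fun Q _ hQ x => IsLocalization.lift_eq _ x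
  obtain ⟨s, hs⟩ := h.fg_top
  obtain ⟨⟨d, hd⟩, hds⟩ := IsLocalization.exist_integer_multiples (nonZeroDivisors A) s (fun y => (y.1 : F))
  have hdC : ∀ z : integralClosure A F, ∃ c : A, algebraMap A F c = algebraMap A F d * z.1 := by
    intro z
    have hz : z ∈ Submodule.span A (s : Set (integralClosure A F)) := hs.symm ▸ trivial
    induction hz using Submodule.span_induction with
    | mem y hy =>
      obtain ⟨c, hc⟩ := hds y hy
      exact ⟨c, hc.trans (Algebra.smul_def _ _)⟩
    | zero => exact ⟨0, by simp⟩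
    | add a b _ _ ha hb =>
      obtain ⟨ca, hca⟩ := ha
      obtain ⟨cb, hcb⟩ := hb
      exact ⟨ca + cb, by rw [map_add, hca, hcb, AddMemClass.coe_add, mul_add]⟩
    | smul r a _ ha =>
      obtain ⟨ca, hca⟩ := ha
      exact ⟨r * ca, by rw [map_mul, hca, SetLike.val_smul, Algebra.smul_def, mul_left_comm]⟩
  refine ⟨Ideal.Quotient.mk P (d * g), fun h0 => ?_, fun Q _ hQ => ?_⟩
  · exact ((inferInstance : P.IsPrime).mem_or_mem (Ideal.Quotient.eq_zero_iff_mem.1 h0)).elim (hnz P hP d hd) hgP
  · rw [isIntegrallyClosed_atPrime_iff]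
    intro y hy
    obtain ⟨b, t, ht, rfl⟩ := IsFractionRing.div_surjective B y
    obtain ⟨b, rfl⟩ := Ideal.Quotient.mk_surjective b
    obtain ⟨t, rfl⟩ := Ideal.Quotient.mk_surjective t
    have htP : t ∉ P := fun h' => nonZeroDivisors.ne_zero ht (Ideal.Quotient.eq_zero_iff_mem.2 h')
    let u := t * g + w
    have hu : u ∈ nonZeroDivisors A := by
      rw [mem_nonZeroDivisors_iff_right]
      intro x hx
      refine hzero x fun W hQ => ?_
      haveI := hQ.1.1
      refine ((inferInstance : W.IsPrime).mem_or_mem (show x * u ∈ W from hx ▸ W.zero_mem)).resolve_right fun huQ => ?_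
      by_cases hQP : W = P
      · subst hQP
        have : t * g ∈ W := by simpa [u] using W.sub_mem huQ hwP
        exact ((inferInstance : W.IsPrime).mem_or_mem this).elim htP hgP
      · have hQo : W ∈ others := Finset.mem_filter.2 ⟨hfin.mem_toFinset.2 hQ, hQP⟩
        have : w ∈ W := by simpa [u] using W.sub_mem huQ (W.mul_mem_left t (hgo' W hQo))
        exact hwo W hQo this
    let z : F := IsLocalization.mk' F (g * g * b) ⟨u, hu⟩
    have hzspec : z * algebraMap A F u = algebraMap A F (g * g * b) := IsLocalization.mk'_spec F _ ⟨u, hu⟩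
    have huK : algebraMap B K (Ideal.Quotient.mk P u) ≠ 0 := fun h' => hnz P hP u hu
      (Ideal.Quotient.eq_zero_iff_mem.1 (IsFractionRing.injective B K (h'.trans (map_zero _).symm)))
    have hzP : ψ P hP z = algebraMap B K (Ideal.Quotient.mk P g) *
        (algebraMap B K (Ideal.Quotient.mk P b) / algebraMap B K (Ideal.Quotient.mk P t)) := by
      have h1 := congrArg (ψ P hP) hzspec
      rw [map_mul, hψ P hP, hψ P hP] at h1
      apply mul_right_cancel₀ huK
      rw [h1]
      have hu' : Ideal.Quotient.mk P u = Ideal.Quotient.mk P t * Ideal.Quotient.mk P g := by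
        simp [u, Ideal.Quotient.eq_zero_iff_mem.2 hwP]
      have ht' : algebraMap B K (Ideal.Quotient.mk P t) ≠ 0 := fun h' => htP
        (Ideal.Quotient.eq_zero_iff_mem.1 (IsFractionRing.injective B K (h'.trans (map_zero _).symm)))
      simp only [hu', map_mul]
      have key : ∀ a b c : K, c ≠ 0 → a * a * b = a * (b / c) * (c * a) := fun a b c hc => by
        rw [show a * (b / c) * (c * a) = a * a * (b / c * c) by ring, div_mul_cancel₀ _ hc]
      exact key _ _ _ ht'
    obtain ⟨f, hf, hfy⟩ := hy
    obtain ⟨f', hf', -, hfm⟩ := Polynomial.lifts_and_degree_eq_and_monic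
      (Polynomial.map_surjective (Ideal.Quotient.mk P) Ideal.Quotient.mk_surjective f) hf
    let G : Polynomial A := Polynomial.X * f'.scaleRoots g
    have hzint : IsIntegral A z := by
      refine ⟨G, Polynomial.monic_X.mul ((Polynomial.monic_scaleRoots_iff g).2 hfm), ?_⟩
      obtain ⟨⟨a, s'⟩, has⟩ := IsLocalization.surj (nonZeroDivisors A) (Polynomial.eval₂ (algebraMap A F) z G)
      suffices a = 0 by
        rw [this, map_zero] at has
        exact (IsUnit.mul_left_eq_zero (IsLocalization.map_units F s')).1 has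
      refine hzero a fun W hWm => ?_
      haveI := hWm.1.1
      rw [← Ideal.Quotient.eq_zero_iff_mem]
      apply IsFractionRing.injective (A ⧸ W) (FractionRing (A ⧸ W))
      rw [map_zero, ← hψ W hWm, ← has, map_mul, Polynomial.hom_eval₂]
      refine mul_eq_zero_of_left ?_ _
      rw [Polynomial.eval₂_mul, Polynomial.eval₂_X]
      by_cases hQP : W = P
      · subst hQP
        refine mul_eq_zero_of_right _ ?_
        rw [hzP, ← hψ W hWm g]
        refine Polynomial.scaleRoots_eval₂_eq_zero ((ψ W hWm).comp (algebraMap A F)) ?_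
        rw [show (ψ W hWm).comp (algebraMap A F) = (algebraMap B K).comp (Ideal.Quotient.mk W) from
          RingHom.ext fun x => hψ W hWm x, ← Polynomial.eval₂_map, hf']
        exact hfy
      · refine mul_eq_zero_of_left ?_ _
        have hQo : W ∈ others := Finset.mem_filter.2 ⟨hfin.mem_toFinset.2 hWm, hQP⟩
        have h1 := congrArg (ψ W hWm) hzspec
        rw [map_mul, hψ W hWm, hψ W hWm, Ideal.Quotient.eq_zero_iff_mem.2 (W.mul_mem_right _ (W.mul_mem_left _ (hgo' W hQo))),
          map_zero, mul_eq_zero] at h1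
        exact h1.resolve_right fun h' => hnz W hWm u hu
          (Ideal.Quotient.eq_zero_iff_mem.1 (IsFractionRing.injective _ _ (h'.trans (map_zero _).symm)))
    obtain ⟨c, hc⟩ := hdC ⟨z, hzint⟩
    refine ⟨Ideal.Quotient.mk P (d * g), hQ, Ideal.Quotient.mk P c, ?_⟩
    have h2 := congrArg (ψ P hP) hc
    rw [map_mul, hψ P hP, hψ P hP, hzP] at h2
    simp only [map_mul]
    rw [h2]
    ring

/-- A finite normalisation gives an open normal locus. -/
theorem isOpen_norLocus_of_finite {A : Type u} [CommRing A] [IsNoetherianRing A] [IsReduced A]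
    (h : Module.Finite A (integralClosure A (FractionRing A))) : IsOpen (EGA4.norLocus A) :=
  isOpen_norLocus fun P hP _ => isN0_quotient_of_finite h P.asIdeal hP

end GrothLib.Excellent
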