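import Groth.Agent.Lib.Excellent.IdealCompletion
import Groth.Agent.Lib.Excellent.NorFiniteType
import Groth.Agent.Lib.NormalSmooth.Basic

/-!
# Normal fibres of an adic completion
-/

set_option autoImplicit false
set_option linter.style.haveILetI false
universe u

open IsLocalRing TensorProduct

namespace GrothLib.Excellent

theorem isNormalRing_of_subsingleton {T : Type u} [CommRing T] [Subsingleton T] : EGA4.IsNormalRing T :=
  fun p hp => absurd (Subsingleton.elim p ⊤) hp.ne_top

theorem isNormalAt_of_disjoint {R L : Type u} [CommRing R] [CommRing L] [Algebra R L]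
    (M : Submonoid R) [IsLocalization M L] (h : EGA4.IsNormalRing L) (q : Ideal R) [q.IsPrime]
    (hdisj : Disjoint (M : Set R) q) : IsNormalAt q := by
  haveI : (q.map (algebraMap R L)).IsPrime := IsLocalization.isPrime_of_isPrime_disjoint M L q inferInstance hdisj
  exact isNormalAt_congr (IsLocalization.comap_map_of_isPrime_disjoint M L inferInstance hdisj)
    ((isNormalAt_localization M _).1 (h _))

theorem isNormal_tensor_atPrime_cpl {A : Type u} [CommRing A] [IsNoetherianRing A] (m : Ideal A) [m.IsPrime]
    (h : EGA4.HasGeomNormalFormalFibres (Localization.AtPrime m)) (p : Ideal A) [p.IsPrime]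
    (L : Type u) [Field L] [Algebra p.ResidueField L] [Module.Finite p.ResidueField L] [Algebra A L]
    [IsScalarTower A p.ResidueField L] :
    EGA4.IsNormalRing (L ⊗[A] EGA4.Cpl (Localization.AtPrime m)) := by
  let R := Localization.AtPrime m
  let C := EGA4.Cpl R
  by_cases hpm : p ≤ m
  · have hdisj : Disjoint (m.primeCompl : Set A) p := Set.disjoint_left.mpr fun x hx hp => hx (hpm hp)
    let P := p.map (algebraMap A R)
    haveI : P.IsPrime := IsLocalization.isPrime_of_isPrime_disjoint m.primeCompl R p inferInstance hdisj
    have hP : p = P.comap (algebraMap A R) :=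
      (IsLocalization.comap_map_of_isPrime_disjoint m.primeCompl R inferInstance hdisj).symm
    let ψ : p.ResidueField →ₐ[A] P.ResidueField := Ideal.ResidueField.mapₐ p P (Algebra.ofId A R) hP
    have hbij : Function.Bijective ψ := RingHom.SurjectiveOnStalks.residueFieldMap_bijective
      (RingHom.surjectiveOnStalks_of_isLocalization m.primeCompl R) p P hP
    let φ : P.ResidueField →ₐ[A] L :=
      (IsScalarTower.toAlgHom A p.ResidueField L).comp (AlgEquiv.ofBijective ψ hbij).symm.toAlgHom
    letI : Algebra P.ResidueField L := φ.toRingHom.toAlgebra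
    letI : Algebra R L := (φ.toRingHom.comp (algebraMap R P.ResidueField)).toAlgebra
    haveI : IsScalarTower R P.ResidueField L := IsScalarTower.of_algebraMap_eq fun _ => rfl
    haveI : IsScalarTower A R L := IsScalarTower.of_algebraMap_eq fun a => by
      show algebraMap A L a = φ (algebraMap R P.ResidueField (algebraMap A R a))
      rw [← IsScalarTower.algebraMap_apply, φ.commutes]
    letI : Algebra p.ResidueField P.ResidueField := ψ.toRingHom.toAlgebra
    haveI : IsScalarTower p.ResidueField P.ResidueField L := IsScalarTower.of_algebraMap_eq fun x => by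
      show algebraMap p.ResidueField L x = algebraMap p.ResidueField L ((AlgEquiv.ofBijective ψ hbij).symm (ψ x))
      congr 1
      exact ((AlgEquiv.ofBijective ψ hbij).symm_apply_apply x).symm
    haveI : Module.Finite P.ResidueField L := Module.Finite.of_restrictScalars_finite p.ResidueField P.ResidueField L
    exact isNormalRing_congr
      ((Algebra.TensorProduct.cancelBaseChange R P.ResidueField L L C).toRingEquiv.trans
        (IsLocalization.algebraTensorEquiv m.primeCompl R L C).toRingEquiv) (h P L inferInstance)
  · obtain ⟨s, hsp, hsm⟩ := Set.not_subset.1 hpm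
    have h0 : algebraMap A L s = 0 := by
      rw [IsScalarTower.algebraMap_apply A p.ResidueField L, Ideal.algebraMap_residueField_eq_zero.2 hsp, map_zero]
    obtain ⟨z, hz⟩ := isUnit_iff_exists_inv.1
      (((IsLocalization.map_units R (⟨s, hsm⟩ : m.primeCompl)).map (algebraMap R C)).map
        (Algebra.TensorProduct.includeRight : C →ₐ[A] L ⊗[A] C))
    rw [← IsScalarTower.algebraMap_apply, AlgHom.commutes,
      IsScalarTower.algebraMap_apply A L (L ⊗[A] C), h0, map_zero, zero_mul] at hz
    haveI : Subsingleton (L ⊗[A] C) := subsingleton_iff_zero_eq_one.1 hz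
    exact isNormalRing_of_subsingleton

theorem geomNormal_adicCompletion {A : Type u} [CommRing A] [IsNoetherianRing A]
    (hA : ∀ (p : Ideal A) [p.IsPrime], EGA4.HasGeomNormalFormalFibres (Localization.AtPrime p)) (I : Ideal A)
    (p : Ideal A) [p.IsPrime] :
    EGA4.IsGeomNormal p.ResidueField (p.Fiber (AdicCompletion I A)) := fun L _ _ hL => by
  letI : Algebra A L := ((algebraMap p.ResidueField L).comp (algebraMap A p.ResidueField)).toAlgebra
  haveI : IsScalarTower A p.ResidueField L := IsScalarTower.of_algebraMap_eq fun _ => rfl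
  haveI := hL
  let B := AdicCompletion I A
  refine isNormalRing_congr (R := L ⊗[A] B)
    (Algebra.TensorProduct.cancelBaseChange A p.ResidueField L L B).symm.toRingEquiv ?_
  refine isNormalRing_congr (R := B ⊗[A] L) (Algebra.TensorProduct.comm A B L).toRingEquiv ?_
  intro Q _
  let T := B ⊗[A] L
  obtain ⟨P, hP, hQP⟩ := Ideal.exists_le_maximal (Q.comap (algebraMap B T)) (Ideal.IsPrime.ne_top inferInstance)
  haveI := hP
  obtain ⟨m, hm, g, hg⟩ := exists_cover_completion A I P
  let BP := Localization.AtPrime P
  let C := EGA4.Cpl (Localization.AtPrime m)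
  letI : Algebra BP C := g.toRingHom.toAlgebra
  haveI : IsScalarTower A BP C := IsScalarTower.of_algebraMap_eq fun a => (g.commutes a).symm
  haveI : Module.FaithfullyFlat BP C := hg
  let S := BP ⊗[A] L
  have hC : EGA4.IsNormalRing (S ⊗[BP] C) := isNormalRing_congr
    ((Algebra.TensorProduct.comm A L C).toRingEquiv.trans
      ((Algebra.TensorProduct.cancelBaseChange A BP C C L).symm.toRingEquiv.trans
        (Algebra.TensorProduct.comm BP C S).toRingEquiv)) (isNormal_tensor_atPrime_cpl m (hA m) p L)
  have hS : EGA4.IsNormalRing S := fun q _ =>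
    GrothLib.NormalSmooth.isNormalRing_of_faithfullyFlat S (S ⊗[BP] C) hC q
  have hS' : EGA4.IsNormalRing (T ⊗[B] BP) := isNormalRing_congr
    ((Algebra.TensorProduct.cancelBaseChange A B BP BP L).symm.toRingEquiv.trans
      (Algebra.TensorProduct.comm B BP T).toRingEquiv) hS
  let M := Algebra.algebraMapSubmonoid T P.primeCompl
  have hdisj : Disjoint (M : Set T) Q := by
    rw [Set.disjoint_left]
    rintro _ ⟨b, hb, rfl⟩ hbQ
    exact hb (hQP hbQ)
  exact isNormalAt_of_disjoint (L := T ⊗[B] BP) M hS' Q hdisj

end GrothLib.Excellent
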