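import Groth.Agent.Lib.Excellent.GeomFibres
import Groth.Agent.Lib.ComplAlg.Main
import Groth.Agent.Lib.GeomReg.FiniteGRing
import Groth.Agent.Lib.AdicExtra.Local
import Mathlib.RingTheory.AdicCompletion.LocalRing
import Mathlib.RingTheory.Localization.BaseChange

/-!
# Fibres of an adic completion
-/

set_option autoImplicit false
set_option linter.style.haveILetI false
universe u

open IsLocalRing TensorProduct

namespace GrothLib.Excellent

/-- A maximal ideal of an adic completion comes from a maximal ideal, with the same completion. -/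
theorem exists_cover_completion (A : Type u) [CommRing A] [IsNoetherianRing A] (I : Ideal A)
    (P : Ideal (AdicCompletion I A)) [P.IsMaximal] :
    ∃ (m : Ideal A) (_ : m.IsMaximal) (g : Localization.AtPrime P →ₐ[A] EGA4.Cpl (Localization.AtPrime m)),
      g.toRingHom.FaithfullyFlat := by
  let B := AdicCompletion I A
  haveI : IsNoetherianRing B := GrothLib.AdicExtra.isNoetherianRing_adicCompletion_of_fg I I.fg_of_isNoetherianRing
  haveI : Module.Flat A B := AdicCompletion.flat_of_isNoetherian I
  haveI := AdicCompletion.isAdicComplete_self I I.fg_of_isNoetherianRing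
  have hIP : I.map (algebraMap A B) ≤ P :=
    (IsAdicComplete.le_jacobson_bot (I.map (algebraMap A B))).trans (sInf_le ⟨bot_le, inferInstance⟩)
  have hs : ∀ x : B, ∃ a : A, x - algebraMap A B a ∈ I.map (algebraMap A B) := fun x => by
    simpa using (GrothLib.ComplAlg.isFormalCompl_adicCompletion I).surj 1 x
  let m := P.comap (algebraMap A B)
  haveI : P.LiesOver m := ⟨rfl⟩
  have hm : m.IsMaximal := by
    letI := Ideal.Quotient.field P
    refine (?_ : (RingHom.ker ((Ideal.Quotient.mk P).comp (algebraMap A B))) = m) ▸ RingHom.ker_isMaximal_of_surjective _ ?_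
    · rw [← RingHom.comap_ker, Ideal.mk_ker]
    · intro y
      obtain ⟨x, rfl⟩ := Ideal.Quotient.mk_surjective y
      obtain ⟨a, ha⟩ := hs x
      exact ⟨a, (Ideal.Quotient.eq.2 (hIP ha)).symm⟩
  have hmB : m.map (algebraMap A B) = P := by
    refine le_antisymm (Ideal.map_le_iff_le_comap.2 le_rfl) fun x hx => ?_
    obtain ⟨a, ha⟩ := hs x
    have hI : x - algebraMap A B a ∈ m.map (algebraMap A B) :=
      Ideal.map_mono (Ideal.map_le_iff_le_comap.1 hIP) ha
    have haP : a ∈ m := by
      show algebraMap A B a ∈ P
      simpa using sub_mem hx (hIP ha)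
    simpa using add_mem hI (Ideal.mem_map_of_mem _ haP)
  refine ⟨m, hm, ?_⟩
  letI := Localization.AtPrime.algebraOfLiesOver m P
  let R := Localization.AtPrime m
  let T := Localization.AtPrime P
  haveI := flat_localization (A := A) P m
  haveI : IsNoetherianRing R := IsLocalization.isNoetherianRing m.primeCompl _ inferInstance
  haveI : IsNoetherianRing T := IsLocalization.isNoetherianRing P.primeCompl _ inferInstance
  have hmax : (maximalIdeal R).map (algebraMap R T) = maximalIdeal T := by
    rw [map_maximalIdeal_eq P m, IsScalarTower.algebraMap_eq A B T, ← Ideal.map_map, hmB,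
      Localization.AtPrime.map_eq_maximalIdeal]
  have hres : Function.Bijective (ResidueField.map (algebraMap R T)) := by
    refine ⟨RingHom.injective _, fun x => ?_⟩
    let g := (residue T).comp (algebraMap B T)
    have hg : ∀ b : B, b ∈ P → g b = 0 := fun b hb => (residue_eq_zero_iff _).2 (by
      rw [← Localization.AtPrime.map_eq_maximalIdeal]; exact Ideal.mem_map_of_mem _ hb)
    have hgA : ∀ b : B, g b ∈ (ResidueField.map (algebraMap R T)).range := fun b => by
      obtain ⟨a, ha⟩ := hs b
      refine ⟨residue R (algebraMap A R a), ?_⟩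
      have h0 := hg _ (hIP ha)
      rw [map_sub, sub_eq_zero] at h0
      rw [ResidueField.map_residue, ← IsScalarTower.algebraMap_apply, IsScalarTower.algebraMap_apply A B T, h0]
      rfl
    obtain ⟨t, rfl⟩ := residue_surjective x
    obtain ⟨⟨b, s⟩, hbs⟩ := IsLocalization.surj P.primeCompl t
    obtain ⟨u, hu⟩ := hgA b
    obtain ⟨v, hv⟩ := hgA s
    have hs0 : g (s : B) ≠ 0 := by
      show residue T _ ≠ 0
      rw [Ne, residue_eq_zero_iff]
      exact fun h => h (IsLocalization.map_units T s)
    refine ⟨u / v, ?_⟩
    rw [map_div₀, hu, hv, div_eq_iff hs0]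
    show residue T _ = _
    rw [show algebraMap B T b = t * algebraMap B T s from hbs.symm, map_mul]
    rfl
  obtain ⟨ψ, hψ⟩ := GrothLib.GeomReg.exists_completion_map R T
  let e := RingEquiv.ofBijective ψ (GrothLib.AdicExtra.bijective_completion ψ hψ hmax hres)
  let g : T →+* EGA4.Cpl R := e.symm.toRingHom.comp (algebraMap T (EGA4.Cpl T))
  refine ⟨{ g with
    commutes' := fun a => by
      show e.symm (algebraMap T (EGA4.Cpl T) (algebraMap A T a)) = algebraMap A (EGA4.Cpl R) a
      rw [RingEquiv.symm_apply_eq, IsScalarTower.algebraMap_apply A R (EGA4.Cpl R),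
        IsScalarTower.algebraMap_apply A R T]
      exact (RingHom.congr_fun hψ (algebraMap A R a)).symm }, ?_⟩
  show g.FaithfullyFlat
  refine RingHom.FaithfullyFlat.stableUnderComposition _ _ ?_ (RingHom.FaithfullyFlat.of_bijective e.symm.bijective)
  exact RingHom.faithfullyFlat_algebraMap_iff.2 (Module.FaithfullyFlat.of_flat_of_isLocalHom)

/-- Localising the base does not change base changes to fields. -/
theorem geomReduced_atPrime_cpl {A : Type u} [CommRing A] [IsNoetherianRing A] (m : Ideal A) [m.IsPrime]
    (h : EGA4.HasGeomReducedFormalFibres (Localization.AtPrime m)) (p : Ideal A) [p.IsPrime] :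
    Algebra.IsGeometricallyReduced p.ResidueField (p.Fiber (EGA4.Cpl (Localization.AtPrime m))) := by
  haveI : IsNoetherianRing (Localization.AtPrime m) := IsLocalization.isNoetherianRing m.primeCompl _ inferInstance
  haveI : Module.Flat (Localization.AtPrime m) (EGA4.Cpl (Localization.AtPrime m)) := inferInstance
  refine geomReduced_comp (B := Localization.AtPrime m) (geomReduced_fibres_of_fields fun K _ _ => ?_) h p
  exact isReduced_localizationPreserves (Algebra.algebraMapSubmonoid K m.primeCompl) (K ⊗[A] Localization.AtPrime m) inferInstance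

theorem geomReduced_adicCompletion {A : Type u} [CommRing A] [IsNoetherianRing A]
    (hA : ∀ (p : Ideal A) [p.IsPrime], EGA4.HasGeomReducedFormalFibres (Localization.AtPrime p)) (I : Ideal A)
    (p : Ideal A) [p.IsPrime] :
    Algebra.IsGeometricallyReduced p.ResidueField (p.Fiber (AdicCompletion I A)) := by
  refine geomReduced_fibres_of_fields (fun K _ _ => ?_) p
  let B := AdicCompletion I A
  suffices IsReduced (B ⊗[A] K) from isReduced_congr (Algebra.TensorProduct.comm A B K).toRingEquiv
  refine ⟨fun x hx => ?_⟩
  refine Module.eq_zero_of_localization_maximal (R := B)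
    (fun P _ => Localization.AtPrime P ⊗[B] (B ⊗[A] K))
    (fun P _ => TensorProduct.mk B (Localization.AtPrime P) (B ⊗[A] K) 1) x fun P hP => ?_
  haveI := hP
  obtain ⟨m, hm, g, hg⟩ := exists_cover_completion A I P
  haveI := isReduced_field_tensor (fun q _ => geomReduced_atPrime_cpl m (hA m) q) K
  let C := EGA4.Cpl (Localization.AtPrime m)
  letI : Algebra (Localization.AtPrime P) C := g.toRingHom.toAlgebra
  haveI : IsScalarTower A (Localization.AtPrime P) C := IsScalarTower.of_algebraMap_eq fun a => (g.commutes a).symm
  haveI : Module.FaithfullyFlat (Localization.AtPrime P) C := hg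
  haveI : IsReduced (C ⊗[Localization.AtPrime P] (Localization.AtPrime P ⊗[A] K)) := isReduced_congr
    ((Algebra.TensorProduct.comm A K C).toRingEquiv.trans
      (Algebra.TensorProduct.cancelBaseChange A (Localization.AtPrime P) C C K).symm.toRingEquiv)
  haveI : IsReduced (Localization.AtPrime P ⊗[A] K) := isReduced_of_injective
    (Algebra.TensorProduct.includeRight :
      Localization.AtPrime P ⊗[A] K →ₐ[Localization.AtPrime P] C ⊗[Localization.AtPrime P] (Localization.AtPrime P ⊗[A] K))
    (Module.FaithfullyFlat.tensorProduct_mk_injective (A := Localization.AtPrime P) (B := C) (Localization.AtPrime P ⊗[A] K))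
  haveI : IsReduced (Localization.AtPrime P ⊗[B] (B ⊗[A] K)) := isReduced_congr
    (Algebra.TensorProduct.cancelBaseChange A B B (Localization.AtPrime P) K).symm.toRingEquiv
  exact (hx.map (Algebra.TensorProduct.includeRight :
    B ⊗[A] K →ₐ[B] Localization.AtPrime P ⊗[B] (B ⊗[A] K))).eq_zero

end GrothLib.Excellent
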